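import Cfsg.Agent.H93.J4U.Base
import Cfsg.Agent.H38.JFour.ZCount

/-!
The involutions of the `2`-core at `z` outside the class of `z` lie in conjugates of `V` by elements centralising `z`.
-/

set_option autoImplicit false
set_option linter.style.haveILetI false

namespace Cfsg.Agent.H93.J4U

open Cfsg Cfsg.Agent.Golay Subgroup H43.JFour H98.JFour H38.JFour

universe u

variable {G : Type u} [Group G] [Finite G]

namespace Uni

variable (D : Uni G)

theorem TT_conj {x : G} (hx : D.TT x) (g : G) : D.TT (g * x * g⁻¹) := by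
  refine ⟨?_, fun e => hx.2.1 ?_, fun e => hx.2.2 (e.trans (isConj_iff.2 ⟨g⁻¹, by group⟩))⟩
  · rw [show g * x * g⁻¹ * (g * x * g⁻¹) = g * (x * x) * g⁻¹ by group, hx.1]; group
  · rw [show x = g⁻¹ * (g * x * g⁻¹) * g by group, e]; group

theorem sing_count :
    Set.ncard {w ∈ D.c.Sing | IsConj D.z w} = 1386 ∧
      Set.ncard {w ∈ D.c.Sing | ¬ IsConj D.z w} = 2772 :=
  H38.JFour.sing_count D.h D.S.hF D.hti

theorem exists_VC_z {x : G} (hx : x ∈ D.c.E) (ht : D.TT x) :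
    ∃ n : G, n * D.z = D.z * n ∧ x ∈ D.VC n := by
  classical
  obtain ⟨t, ht'⟩ := Set.nonempty_of_ncard_ne_zero (s := D.h.fib D.h.rest 1)
    (by rw [(D.h.rest_A7 D.S.hF).1]; norm_num)
  have htA : t ∈ D.h.A7 := D.h.mem_A7_of_pr (D.h.rest_inv.sub ht'.1) ht'.2
  have htz : ¬ IsConj D.z t := fun e => ht'.1.2 (D.h.fusion (D.h.A7_le_V htA) e)
  have hcard : (conjSet D.c.H t).ncard = 2772 := by
    have h1 := conjSet_card D.c.H t
    have e : D.c.H ⊓ centralizer ({t} : Set G) = D.h.NH ⊓ centralizer ({t} : Set G) :=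
      le_antisymm (le_inf (D.h.cent_rest_le D.S.hF D.hti ht'.1) inf_le_right)
        (inf_le_inf (fun n hn => hn.1) le_rfl)
    rw [e, D.h.card_cent_NH D.S.hF ht', D.h.hc.card_H, D.h.hd.card] at h1
    omega
  have hsub : conjSet D.c.H t ⊆ {w ∈ D.c.Sing | ¬ IsConj D.z w} := by
    rintro _ ⟨n, hn, rfl⟩
    have hz : ¬ IsConj D.z (n * t * n⁻¹) := fun e => htz (e.trans (isConj_iff.2 ⟨n⁻¹, by group⟩))
    refine ⟨⟨D.h.hc.conjE hn (mem_inf.1 htA).1, ?_, fun e => ht'.1.1.2 ?_,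
      fun e => hz (e ▸ IsConj.refl _)⟩, hz⟩
    · rw [show n * t * n⁻¹ * (n * t * n⁻¹) = n * (t * t) * n⁻¹ by group, D.h.A7_sq htA]; group
    · rw [mul_inv_eq_one] at e; exact mul_eq_left.1 e
  have heq := Set.eq_of_subset_of_ncard_le hsub (by rw [hcard]; exact le_of_eq D.sing_count.2)
    (Set.toFinite _)
  have hmem : x ∈ conjSet D.c.H t := by
    rw [heq]
    exact ⟨⟨hx, ht.1, ht.2.1, fun e => ht.2.2 (e ▸ IsConj.refl _)⟩, ht.2.2⟩
  obtain ⟨n, hn, rfl⟩ := hmem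
  refine ⟨n, mem_centralizer_singleton_iff.1 hn, D.mem_VC.2 ?_⟩
  rw [show n⁻¹ * (n * t * n⁻¹) * n = t by group]
  exact D.h.A7_le_V htA

/-- The core at a conjugate of `z` in `V`. -/
abbrev core (a : G) : Subgroup G := Cfsg.twoCoreOfCentralizer a

theorem card_core {a : G} (ha : a ∈ D.V) (haz : IsConj D.z a) : Nat.card ↥(core a) = 8192 := by
  obtain ⟨k, -, rfl⟩ := D.S.exists_K_conj ha haz
  rw [core, D.S.core_eq, Subgroup.card_map_of_injective (MulAut.conj k).injective, D.h.hc.cardE]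
  rfl

theorem core_count {a : G} (ha : a ∈ D.V) (haz : IsConj D.z a) :
    Set.ncard {x | x ∈ core a ∧ x * x = 1 ∧ x ≠ 1 ∧ x ≠ a ∧ IsConj D.z x} = 1386 := by
  obtain ⟨k, -, rfl⟩ := D.S.exists_K_conj ha haz
  rw [← D.sing_count.1]
  have hi : Function.Injective (fun x : G => k * x * k⁻¹) :=
    fun x y e => mul_left_cancel (mul_right_cancel e)
  rw [← Set.ncard_image_of_injective {w ∈ D.c.Sing | IsConj D.z w} hi]
  congr 1
  ext x
  simp only [Set.mem_setOf_eq, Set.mem_image]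
  constructor
  · rintro ⟨h1, h2, h3, h4, h5⟩
    refine ⟨k⁻¹ * x * k, ⟨⟨D.S.mem_core.1 h1, ?_, fun e => h3 ?_, fun e => h4 ?_⟩,
      h5.trans (isConj_iff.2 ⟨k⁻¹, by group⟩)⟩, by group⟩
    · rw [show k⁻¹ * x * k * (k⁻¹ * x * k) = k⁻¹ * (x * x) * k by group, h2]; group
    · rw [show x = k * (k⁻¹ * x * k) * k⁻¹ by group, e]; group
    · rw [show x = k * (k⁻¹ * x * k) * k⁻¹ by group, e]
  · rintro ⟨w, ⟨⟨h1, h2, h3, h4⟩, h5⟩, rfl⟩
    refine ⟨D.S.mem_core.2 ?_, ?_, fun e => h3 ?_, fun e => h4 ?_, h5.trans (isConj_iff.2 ⟨k, rfl⟩)⟩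
    · rwa [show k⁻¹ * (k * w * k⁻¹) * k = w by group]
    · rw [show k * w * k⁻¹ * (k * w * k⁻¹) = k * (w * w) * k⁻¹ by group, h2]; group
    · exact mul_eq_left.1 (mul_inv_eq_one.1 e)
    · exact mul_left_cancel (mul_right_cancel e)

/-- An involution of a core outside the class of `z` lies in a conjugate of `V` through the centre of the core. -/
theorem exists_VC_core {a x : G} (ha : a ∈ D.V) (haz : IsConj D.z a) (hx : x ∈ core a)
    (ht : D.TT x) : ∃ g : G, a ∈ D.VC g ∧ x ∈ D.VC g := by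
  obtain ⟨k, -, rfl⟩ := D.S.exists_K_conj ha haz
  have ht' : D.TT (k⁻¹ * x * k) := by simpa using D.TT_conj ht k⁻¹
  obtain ⟨n, hn, hm⟩ := D.exists_VC_z (D.S.mem_core.1 hx) ht'
  refine ⟨k * n, D.mem_VC.2 ?_, D.mem_VC.2 ?_⟩
  · rw [show (k * n)⁻¹ * (k * D.c.z * k⁻¹) * (k * n) = n⁻¹ * (D.c.z * n) by group,
      show D.c.z * n = n * D.c.z from hn.symm, inv_mul_cancel_left]
    exact D.h.z_mem_V
  · rw [show (k * n)⁻¹ * x * (k * n) = n⁻¹ * (k⁻¹ * x * k) * n by group]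
    exact D.mem_VC.1 hm

end Uni

end Cfsg.Agent.H93.J4U
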