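import Cfsg.Agent.H93.J4U.El
import Cfsg.Agent.H93.J4U.Count
import Cfsg.Agent.H93.J4U.Tables

/-!
The `2`-core at the sextet `698`, by its `128 * 64` elements.
-/

set_option autoImplicit false
set_option linter.style.haveILetI false

namespace Cfsg.Agent.H93.J4U

open Cfsg Cfsg.Agent.Golay Subgroup H43.JFour H98.JFour H38.JFour

universe u

namespace Tab

/-- The permutations of the sextet group. -/
def groupT : List ℕ := groupList.map fun q => q.1

set_option maxRecDepth 100000 in
theorem half_check : (isSext aS && decide (halfBasis.length = 7) &&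
    (halfBasis.all fun b => isDuad b && isDuad (b ^^^ aS)) && indep halfBasis [0] &&
    (halfList.all fun s => ev s) && decide (halfList.length = 128) &&
    (halfList.all fun s => (halfBasis.foldl spanStep [0]).contains s) &&
    ((halfBasis.foldl spanStep [0]).all fun s => halfList.contains s)) = true ∧
    halfList.Nodup ∧ groupT.length = 64 := by
  refine ⟨?_, ?_, ?_⟩ <;> decide +kernel

set_option maxRecDepth 100000 in
theorem group_check : (groupT.all fun T => inM24 T && (img T aS == aS) &&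
    halfBasis.all fun b => (img T b == b) || (img T b == b ^^^ aS)) = true := by
  decide +kernel

set_option maxRecDepth 100000 in
theorem group_distinct : ((List.range 64).all fun i => (List.range i).all fun j =>
    !tblEq (groupT.getD i 0) (groupT.getD j 0)) = true := by
  decide +kernel

theorem half_facts : isSext aS = true ∧ halfBasis.length = 7 ∧
    (∀ b ∈ halfBasis, isDuad b = true ∧ isDuad (b ^^^ aS) = true) ∧ indep halfBasis [0] = true ∧
    (∀ s ∈ halfList, ev s = true) ∧ halfList.length = 128 ∧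
    (∀ s, s ∈ halfBasis.foldl spanStep [0] ↔ s ∈ halfList) := by
  have h := half_check.1
  simp only [Bool.and_eq_true, List.all_eq_true, decide_eq_true_eq, List.contains_iff_mem] at h
  obtain ⟨⟨⟨⟨⟨⟨⟨h1, h2⟩, h3⟩, h4⟩, h5⟩, h6⟩, h7⟩, h8⟩ := h
  exact ⟨h1, h2, h3, h4, h5, h6, fun s => ⟨h8 s, h7 s⟩⟩

theorem group_mem {T : ℕ} (hT : T ∈ groupT) : inM24 T = true := by
  have h := List.all_eq_true.1 group_check T hT
  simp only [Bool.and_eq_true] at h
  exact h.1.1

theorem group_el_inj {T T' : ℕ} (hT : T ∈ groupT) (hT' : T' ∈ groupT) (e : el T = el T') : T = T' := by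
  obtain ⟨i, hi, rfl⟩ := List.getElem_of_mem hT
  obtain ⟨j, hj, rfl⟩ := List.getElem_of_mem hT'
  by_contra hne
  have hne' : i ≠ j := fun e => hne (by subst e; rfl)
  have hlen := half_check.2.2
  have h := group_distinct
  simp only [List.all_eq_true, List.mem_range, Bool.not_eq_true'] at h
  rcases lt_or_gt_of_ne hne' with hl | hl
  · have h1 := h j (by omega) i hl
    rw [List.getD_eq_getElem _ _ hi, List.getD_eq_getElem _ _ hj] at h1
    exact el_ne (group_mem hT') (group_mem hT) h1 e.symm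
  · have h1 := h i (by omega) j hl
    rw [List.getD_eq_getElem _ _ hi, List.getD_eq_getElem _ _ hj] at h1
    exact el_ne (group_mem hT) (group_mem hT') h1 e

end Tab

open Tab

variable {G : Type u} [Group G] [Finite G]

namespace Uni

variable (D : Uni G)

/-- The element of the sextet `698`. -/
noncomputable abbrev a : G := D.F aS

theorem a_mem : D.a ∈ D.V := D.F_mem aS

theorem a_conj : IsConj D.z D.a := (D.F_isConj (isSext_ev half_facts.1).1).2 half_facts.1

theorem half_core {s : ℕ} (hs : s ∈ halfList) : D.F s ∈ core D.a := by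
  obtain ⟨ha, -, hb, -, -, -, hspan⟩ := half_facts
  refine span_induction (P := fun x => D.F x ∈ core D.a) ?_ _ _ ?_ ?_ s ((hspan s).2 hs)
  · intro x y hx hy
    show D.F (x ^^^ y) ∈ _
    rw [D.F_xor]; exact mul_mem hx hy
  · intro b hb'
    obtain ⟨h1, h2⟩ := hb b hb'
    refine D.S.pair_core D.a_mem D.a_conj ((D.S.F_rest (ev_of_isDuad h1).1).2 h1) ?_
    show D.S.F b * D.S.F aS ∈ D.h.rest
    rw [← D.S.F_xor]
    exact (D.S.F_rest (ev_xor (ev_of_isDuad h1).1 (isSext_ev ha).1)).2 h2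
  · intro x hx
    rw [List.mem_singleton.1 hx, D.F_zero]; exact one_mem _

theorem half_iff {s : ℕ} (hs : ev s = true) : D.F s ∈ core D.a ↔ s ∈ halfList := by
  classical
  refine ⟨fun hm => ?_, D.half_core⟩
  obtain ⟨-, -, -, -, hev, hlen, -⟩ := half_facts
  have hnd : (halfList.map D.F).Nodup :=
    half_check.2.1.map_on fun x hx y hy e => D.F_inj (hev x hx) (hev y hy) e
  have hset : ((halfList.map D.F).toFinset : Set G) = ((D.h.V ⊓ core D.a : Subgroup G) : Set G) := by
    refine Set.eq_of_subset_of_ncard_le ?_ ?_ (Set.toFinite _)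
    · intro x hx
      rw [Finset.mem_coe, List.mem_toFinset, List.mem_map] at hx
      obtain ⟨y, hy, rfl⟩ := hx
      exact mem_inf.2 ⟨D.F_mem y, D.half_core hy⟩
    · rw [Set.ncard_coe_finset, List.toFinset_card_of_nodup hnd, List.length_map, hlen,
        ← Nat.card_coe_set_eq]
      exact le_of_eq (D.S.card_core_V D.a_mem D.a_conj)
  have hmem : D.F s ∈ ((halfList.map D.F).toFinset : Set G) := by
    rw [hset]; exact mem_inf.2 ⟨D.F_mem s, hm⟩
  rw [Finset.mem_coe, List.mem_toFinset, List.mem_map] at hmem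
  obtain ⟨y, hy, e⟩ := hmem
  rwa [← D.F_inj (hev y hy) hs e]

theorem group_core {T : ℕ} (hT : T ∈ groupT) : D.φ (el T) ∈ core D.a := by
  have hin := group_mem hT
  have h := List.all_eq_true.1 group_check T hT
  simp only [Bool.and_eq_true, beq_iff_eq, List.all_eq_true, Bool.or_eq_true] at h
  obtain ⟨⟨-, ha⟩, hb⟩ := h
  obtain ⟨hsx, -, hbs, -, -, -, hspan⟩ := half_facts
  have hae := (isSext_ev hsx).1
  refine D.S.mem_core_of_fix D.a_mem D.a_conj (D.φ_mem _) ?_ fun v hv => ?_
  · exact mul_inv_eq_iff_eq_mul.1 (by rw [D.conj_el hin hae, ha])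
  obtain ⟨hvV, hvc⟩ := mem_inf.1 hv
  obtain ⟨s, hs, rfl⟩ := D.exists_F hvV
  have hmem := (D.half_iff hs).1 hvc
  suffices h2 : ev s = true ∧ (D.φ (el T) * D.F s * (D.φ (el T))⁻¹ = D.F s ∨
      D.φ (el T) * D.F s * (D.φ (el T))⁻¹ = D.a * D.F s) from h2.2
  refine span_induction (P := fun x => ev x = true ∧ (D.φ (el T) * D.F x * (D.φ (el T))⁻¹ = D.F x ∨
    D.φ (el T) * D.F x * (D.φ (el T))⁻¹ = D.a * D.F x)) ?_ _ _ ?_ ?_ s ((hspan s).2 hmem)
  · rintro x y ⟨hx, ex⟩ ⟨hy, ey⟩
    refine ⟨ev_xor hx hy, ?_⟩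
    rw [D.F_xor, show D.φ (el T) * (D.F x * D.F y) * (D.φ (el T))⁻¹ =
      (D.φ (el T) * D.F x * (D.φ (el T))⁻¹) * (D.φ (el T) * D.F y * (D.φ (el T))⁻¹) by group]
    rcases ex with ex | ex <;> rcases ey with ey | ey <;> rw [ex, ey]
    · exact Or.inl rfl
    · right; rw [← mul_assoc, D.h.V_comm (D.F_mem x) D.a_mem, mul_assoc]
    · right; rw [mul_assoc]
    · left
      rw [D.h.V_comm D.a_mem (D.F_mem x), mul_assoc, ← mul_assoc D.a, D.h.V_sq D.a_mem, one_mul]
  · intro b hb'
    have hbe := (ev_of_isDuad (hbs b hb').1).1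
    refine ⟨hbe, ?_⟩
    rw [D.conj_el hin hbe]
    rcases hb b hb' with e | e <;> rw [e]
    · exact Or.inl rfl
    · rw [D.F_xor, D.h.V_comm (D.F_mem _) (D.F_mem _)]; exact Or.inr rfl
  · intro x hx
    rw [List.mem_singleton.1 hx, D.F_zero]
    exact ⟨ev_zero, Or.inl (by group)⟩

/-- The element of the core with given coordinates. -/
noncomputable def cEl (p : ℕ × ℕ) : G := D.F p.1 * D.φ (el p.2)

theorem cEl_inj {p q : ℕ × ℕ} (hp : p.1 ∈ halfList ∧ p.2 ∈ groupT) (hq : q.1 ∈ halfList ∧ q.2 ∈ groupT)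
    (e : D.cEl p = D.cEl q) : p = q := by
  obtain ⟨e1, e2⟩ := D.decomp_unique (D.F_mem _) (D.F_mem _) e
  exact Prod.ext (D.F_inj (half_facts.2.2.2.2.1 _ hp.1) (half_facts.2.2.2.2.1 _ hq.1) e1)
    (group_el_inj hp.2 hq.2 e2)

theorem cEl_mem {p : ℕ × ℕ} (hp : p.1 ∈ halfList ∧ p.2 ∈ groupT) : D.cEl p ∈ core D.a :=
  mul_mem (D.half_core hp.1) (D.group_core hp.2)

theorem groupT_nodup : groupT.Nodup := by decide +kernel

/-- The coordinates of the core. -/
@[irreducible] def coords : Finset (ℕ × ℕ) := halfList.toFinset ×ˢ groupT.toFinset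

theorem prod_lists_mem (a b : List ℕ) (p : ℕ × ℕ) :
    p ∈ a.toFinset ×ˢ b.toFinset ↔ p.1 ∈ a ∧ p.2 ∈ b := by
  rw [Finset.mem_product, List.mem_toFinset, List.mem_toFinset]

theorem prod_lists_card {a b : List ℕ} (ha : a.Nodup) (hb : b.Nodup) :
    (a.toFinset ×ˢ b.toFinset).card = a.length * b.length := by
  rw [Finset.card_product, List.toFinset_card_of_nodup ha, List.toFinset_card_of_nodup hb]

theorem mem_coords {p : ℕ × ℕ} : p ∈ coords ↔ p.1 ∈ halfList ∧ p.2 ∈ groupT := by
  unfold coords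
  exact prod_lists_mem halfList groupT p

theorem card_coords : coords.card = 128 * 64 := by
  unfold coords
  exact (prod_lists_card half_check.2.1 groupT_nodup).trans
    (by rw [half_facts.2.2.2.2.2.1, half_check.2.2])

theorem core_eq_image : (core D.a : Set G) = D.cEl '' (coords : Set (ℕ × ℕ)) := by
  classical
  refine (Set.eq_of_subset_of_ncard_le ?_ ?_ (Set.toFinite _)).symm
  · rintro _ ⟨p, hp, rfl⟩
    exact D.cEl_mem (mem_coords.1 hp)
  · rw [Set.ncard_image_of_injOn fun p hp q hq e => D.cEl_inj (mem_coords.1 hp) (mem_coords.1 hq) e,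
      Set.ncard_coe_finset, card_coords, ← Nat.card_coe_set_eq]
    exact le_of_eq (D.card_core D.a_mem D.a_conj)

theorem core_decomp {x : G} (hx : x ∈ core D.a) :
    ∃ s ∈ halfList, ∃ T ∈ groupT, x = D.F s * D.φ (el T) := by
  have hx' : x ∈ D.cEl '' (coords : Set (ℕ × ℕ)) := D.core_eq_image ▸ hx
  obtain ⟨⟨s, T⟩, hp, rfl⟩ := hx'
  exact ⟨s, (mem_coords.1 hp).1, T, (mem_coords.1 hp).2, rfl⟩

end Uni

end Cfsg.Agent.H93.J4U
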