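import Cfsg.Agent.H93.J4U.Good
import Cfsg.Agent.H94.M24.Class
import Cfsg.Agent.H38.JFour.SecondClass

/-!
The standing data exists, with a complement whose involutions without fixed points lie outside the class of `z`.
-/

set_option autoImplicit false
set_option linter.style.haveILetI false

namespace Cfsg.Agent.H93.J4U

open Cfsg Cfsg.Agent.Golay Subgroup H43.JFour H98.JFour H38.JFour Tab

universe u

variable {G : Type u} [Group G] [Finite G]

theorem free_rep {σ : ↥Cfsg.M24} (hσ : σ * σ = 1) (hfree : ∀ p, (σ : Equiv.Perm GolayPt) p ≠ p) :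
    ∃ C : ↥Cfsg.M24, C * el H94.M24.invRep0 * C⁻¹ = σ := by
  have hin : inM24 H94.M24.invRep0 = true ∧ validT H94.M24.invRep1 = true ∧
      app H94.M24.invRep1 4 = 4 := by decide +kernel
  have hne : (σ : Equiv.Perm GolayPt) ≠ 1 := fun e => hfree none (by rw [e]; rfl)
  have hsq : (σ : Equiv.Perm GolayPt) * σ = 1 := congrArg Subtype.val hσ
  haveI : Fact (Nat.Prime 2) := ⟨Nat.prime_two⟩
  obtain ⟨r, hr, c, hc, e⟩ := H94.M24.exists_inv_rep σ.2
    (orderOf_eq_prime (by rw [pow_two, hsq]) hne)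
  refine ⟨⟨c, hc⟩, Subtype.ext ?_⟩
  rw [Subgroup.coe_mul, Subgroup.coe_mul, el_coe hin.1]
  simp only [List.mem_cons, List.not_mem_nil, or_false] at hr
  rcases hr with rfl | rfl
  · simpa using e
  · exfalso
    refine hfree (c (pt 4)) ?_
    rw [← e]
    simp [mkPerm_pt hin.2.1 (show 4 < 24 by norm_num), hin.2.2]

namespace Uni

/-- The involutions of the complement without fixed points lie outside the class of `z`. -/
def Good (D : Uni G) : Prop :=
  ∀ σ : ↥Cfsg.M24, σ * σ = 1 → (∀ p, (σ : Equiv.Perm GolayPt) p ≠ p) → ¬ IsConj D.z (D.φ σ)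

theorem uT_free : inM24 uT = true ∧ el uT * el uT = 1 ∧
    (∀ p, (el uT : Equiv.Perm GolayPt) p ≠ p) ∧ pairP (pt 0) ((el uT : Equiv.Perm GolayPt) (pt 0)) = dS := by
  have h : ((List.range 24).all fun i => !(app uT i == i)) = true ∧ pairS 0 (app uT 0) = dS := by
    decide +kernel
  obtain ⟨hu, husq, -, -, -⟩ := u_facts
  have hv := validT_of_inM24 hu
  refine ⟨hu, husq, fun p e => ?_, ?_⟩
  · have h1 := List.all_eq_true.1 h.1 (idx p) (List.mem_range.2 (idx_lt p))
    have h2 := congrArg idx e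
    rw [el_coe hu, idx_mkPerm hv] at h2
    simp [h2] at h1
  · rw [pairP, el_coe hu, idx_mkPerm hv, idx_pt 0 (by norm_num), h.2]

theorem good_of_u (D : Uni G) (h : ¬ IsConj D.z (D.φ (el uT))) : D.Good := by
  intro σ hσ hfree hz
  obtain ⟨-, husq, hufree, -⟩ := uT_free
  obtain ⟨C1, e1⟩ := free_rep hσ hfree
  obtain ⟨C2, e2⟩ := free_rep husq hufree
  refine h (hz.trans (isConj_iff.2 ⟨D.φ (C2 * C1⁻¹), ?_⟩))
  rw [← map_mul, ← map_inv, ← map_mul]
  refine congrArg D.φ ?_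
  rw [← e1, ← e2]; group

theorem good_or (D : Uni G) : D.Good ∨ D.twist.Good := by
  by_cases h : IsConj D.z (D.φ (el uT))
  · refine Or.inr (D.twist.good_of_u fun h2 => D.not_bothZ ⟨h, ?_⟩)
    rw [D.twist_φ, D.twHom_apply, tw, uT_free.2.2.2] at h2
    exact h2
  · exact Or.inl (D.good_of_u h)

end Uni

/-- The standing data exists. -/
theorem exists_uni [IsSimpleGroup G] (hG : ¬ IsMulCommutative G) {z : G}
    (hJ : Cfsg.IsOfJankoFourTypeAt z) : ∃ D : Uni G, D.z = z := by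
  obtain ⟨c, W, W', a, b, u, hz, hE, hti, h, h', hS, hF⟩ := exists_full_setup hG hJ
  obtain ⟨K, hK, hKV, hsup, -⟩ := exists_mathieu_complement h h' hS hF
  have hcent := h.cent_le_of_model hF hE hti fun t htV ht1 htz =>
    exists_tmodel h hF hE hti ⟨hK, hKV, hsup⟩ htV ht1 htz
  obtain ⟨t, ht⟩ := Set.nonempty_of_ncard_ne_zero (s := h.fib h.rest 1)
    (by rw [(h.rest_A7 hF).1]; norm_num)
  have htV : t ∈ h.V := ht.1.1.1
  obtain ⟨Dd⟩ := exists_dictOf h hF (t := ⟨t, htV⟩) ht.1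
  exact ⟨⟨inferInstance, hG, c, W, h, hti, K, ⟨t, htV⟩,
    ⟨hF, hE, ⟨hK, hKV, hsup⟩, ht.1, Dd⟩, hcent⟩, hz⟩

/-- **The standing data with the complement chosen.** -/
theorem exists_good [IsSimpleGroup G] (hG : ¬ IsMulCommutative G) {z : G}
    (hJ : Cfsg.IsOfJankoFourTypeAt z) : ∃ D : Uni G, D.z = z ∧ D.Good := by
  obtain ⟨D, rfl⟩ := exists_uni hG hJ
  rcases D.good_or with h | h
  exacts [⟨D, rfl, h⟩, ⟨D.twist, rfl, h⟩]

end Cfsg.Agent.H93.J4U
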