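import Cfsg.Agent.H93.J4U.HexCheck
import Cfsg.Agent.H93.J4U.Complement

/-!
The conjugate of `V` attached to a sextet: it holds the sextet and the whole sextet group of a good complement and
meets `V` in the sextet alone.
-/

set_option autoImplicit false
set_option linter.style.haveILetI false

namespace Cfsg.Agent.H93.J4U

open Cfsg Cfsg.Agent.Golay Subgroup H43.JFour H98.JFour H38.JFour Tab

universe u

variable {G : Type u} [Group G] [Finite G]

theorem el_mul_eq {A B A' B' : ℕ} (hA : inM24 A = true) (hB : inM24 B = true) (hA' : inM24 A' = true)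
    (hB' : inM24 B' = true) (h : tblEq (tblMul A B) (tblMul A' B') = true) :
    el A * el B = el A' * el B' := by
  obtain ⟨hv, he⟩ := tblMul_spec (validT_of_inM24 hA) (validT_of_inM24 hB)
  obtain ⟨hv', he'⟩ := tblMul_spec (validT_of_inM24 hA') (validT_of_inM24 hB')
  apply Subtype.ext
  rw [Subgroup.coe_mul, Subgroup.coe_mul, el_coe hA, el_coe hB, el_coe hA', el_coe hB', ← he, ← he',
    mkPerm_eq_of_tblEq hv hv' h]

namespace Uni

variable (D : Uni G)

theorem TT_u (hg : D.Good) : D.TT (D.φ (el uT)) := by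
  obtain ⟨-, hsq, hfree, -⟩ := uT_free
  refine ⟨by rw [← map_mul, hsq, map_one], fun e => ?_, hg _ hsq hfree⟩
  rw [← map_one D.φ] at e
  exact hfree none (by rw [D.φ_injective e]; rfl)

theorem free_facts {T : ℕ} (hT : T ∈ freeList.map Prod.fst) :
    T ∈ groupT ∧ ∃ C : ↥Cfsg.M24, el T = C * el uT * C⁻¹ := by
  obtain ⟨q, hq, rfl⟩ := List.mem_map.1 hT
  have h := List.all_eq_true.1 free_check q hq
  simp only [Bool.and_eq_true, List.contains_iff_mem] at h
  obtain ⟨⟨⟨⟨⟨h1, h2⟩, h3⟩, -⟩, -⟩, -⟩ := h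
  exact ⟨h1, el q.2, eq_mul_inv_of_mul_eq (el_mul_eq h2 u_facts.1 (group_mem h1) h2 h3).symm⟩

theorem TT_free (hg : D.Good) {T : ℕ} (hT : T ∈ freeList.map Prod.fst) : D.TT (D.φ (el T)) := by
  obtain ⟨-, C, e⟩ := free_facts hT
  rw [e, map_mul, map_mul, map_inv]
  exact D.TT_conj (D.TT_u hg) _

theorem VC_comm {g x y : G} (hx : x ∈ D.VC g) (hy : y ∈ D.VC g) : x * y = y * x := by
  have h := D.h.V_comm (D.mem_VC.1 hx) (D.mem_VC.1 hy)
  calc x * y = g * ((g⁻¹ * x * g) * (g⁻¹ * y * g)) * g⁻¹ := by group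
    _ = g * ((g⁻¹ * y * g) * (g⁻¹ * x * g)) * g⁻¹ := by rw [h]
    _ = y * x := by group

theorem VC_sq {g x : G} (hx : x ∈ D.VC g) : x * x = 1 := by
  calc x * x = g * ((g⁻¹ * x * g) * (g⁻¹ * x * g)) * g⁻¹ := by group
    _ = 1 := by rw [D.h.V_sq (D.mem_VC.1 hx)]; group

theorem core_conj_iff {a g x : G} (hg : Commute g a) :
    x ∈ core a ↔ g⁻¹ * x * g ∈ core a := by
  have h := twoCore_conj g a
  rw [hg.eq, mul_inv_cancel_right] at h
  conv_lhs => rw [core, h, Ctx.mem_conj_map]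

/-- A conjugate of `V` holding `a` and the involution at `uT`, by an element centralising `a`. -/
theorem exists_U (hg : D.Good) : ∃ g : G, Commute g D.a ∧ D.φ (el uT) ∈ D.VC g := by
  have hu : uT ∈ groupT := by decide +kernel
  have hx : D.φ (el uT) ∈ core D.a := D.group_core hu
  obtain ⟨k, hk, hka⟩ := D.S.exists_K_conj D.a_mem D.a_conj
  have hm : k⁻¹ * D.φ (el uT) * k ∈ D.c.E := D.S.mem_core.1 (hka.symm ▸ hx)
  have ht : D.TT (k⁻¹ * D.φ (el uT) * k) := by simpa using D.TT_conj (D.TT_u hg) k⁻¹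
  obtain ⟨n, hn, hmem⟩ := D.exists_VC_z hm ht
  refine ⟨k * n * k⁻¹, ?_, ?_⟩
  · show k * n * k⁻¹ * D.a = D.a * (k * n * k⁻¹)
    rw [← hka]
    calc k * n * k⁻¹ * (k * D.c.z * k⁻¹) = k * (n * D.c.z) * k⁻¹ := by group
      _ = k * (D.c.z * n) * k⁻¹ := by rw [show n * D.c.z = D.c.z * n from hn]
      _ = k * D.c.z * k⁻¹ * (k * n * k⁻¹) := by group
  · rw [D.mem_VC] at hmem ⊢
    have h1 := (mem_normalizer_iff.1 (D.S.hK.le hk) _).1 hmem
    rwa [show (k * n * k⁻¹)⁻¹ * D.φ (el uT) * (k * n * k⁻¹) =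
      k * (n⁻¹ * (k⁻¹ * D.φ (el uT) * k) * n) * k⁻¹ by group]

variable {D} {g : G} (hga : Commute g D.a) (hu : D.φ (el uT) ∈ D.VC g)

include hga in
theorem a_VC : D.a ∈ D.VC g := by
  rw [D.mem_VC, mul_assoc, ← hga.eq, inv_mul_cancel_left]
  exact D.a_mem

include hu in
theorem V_ne (hg : D.Good) : D.VC g ≠ D.V := fun e => by
  rw [e] at hu
  obtain ⟨-, -, hfree, -⟩ := uT_free
  exact hfree none (by rw [D.φ_mem_V_iff.1 hu]; rfl)

include hga hu in
theorem inter_V (hg : D.Good) {v : G} (hv : v ∈ D.V) (hvU : v ∈ D.VC g) : v = 1 ∨ v = D.a := by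
  obtain ⟨s, hs, rfl⟩ := D.exists_F hv
  by_contra hne
  rw [not_or] at hne
  obtain ⟨huin, husq, -, hpre, -⟩ := u_facts
  have huv := D.VC_comm hu hvU
  rw [D.mul_φ_F _ huin hs rfl] at huv
  have hfix : img uT s = s := D.F_inj (ev_img (validT_of_inM24 huin) hs) hs (mul_right_cancel huv)
  obtain ⟨hfh, hcent⟩ := fix_u_check
  have hhalf : s ∈ halfList := List.contains_iff_mem.1
    (List.all_eq_true.1 hfh s (mem_fixedList (by simp [linGens, basisE]) hs (by rw [D.lin_img huin hs, hfix])))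
  have hcl := List.all_eq_true.1 closure_check s
    (List.mem_filter.2 ⟨hhalf, beq_iff_eq.2 hfix⟩)
  simp only [Bool.or_eq_true, beq_iff_eq, List.any_eq_true, List.all_eq_true, List.contains_iff_mem] at hcl
  let P : ℕ → Prop := fun x => ev x = true ∧ D.F x ∈ D.VC g
  have hP : ∀ x ∈ closC centGens 3 (addGen [0] s), P x := by
    have hxor : ∀ x y, P x → P y → P (x ^^^ y) := fun x y hx hy =>
      ⟨ev_xor hx.1 hy.1, by rw [D.F_xor]; exact mul_mem hx.2 hy.2⟩
    have h00 : ∀ x ∈ [0], P x := fun x hx => by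
      rw [List.mem_singleton.1 hx]
      exact ⟨ev_zero, by rw [D.F_zero]; exact one_mem _⟩
    refine closC_forall hxor ?_ 3 _ (addGen_forall hxor h00 ⟨hs, hvU⟩)
    intro T hT x hx
    have h := List.all_eq_true.1 hcent T hT
    simp only [Bool.and_eq_true] at h
    refine ⟨ev_img (validT_of_inM24 h.1) hx.1, ?_⟩
    rw [← D.conj_el h.1 hx.1]
    exact (mem_normalizer_iff.1 (D.cent_norm hu (D.TT_u hg)
      (by rw [← map_mul, ← map_mul, el_mul_eq h.1 huin huin h.1 h.2])) _).1 hx.2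
  rcases hcl with (h0 | h0) | ⟨x, hx, hd⟩ | hall
  · exact hne.1 (by rw [h0, D.F_zero])
  · exact hne.2 (by rw [h0])
  · refine V_ne hu hg ?_
    rw [← D.VC_one]
    exact D.VC_unique (hP x hx).2 (D.mem_VC.2 (by simpa using D.F_mem x))
      ((D.F_TT (hP x hx).1).2 hd)
  · have hn : g⁻¹ ∈ normalizer (D.V : Set G) := by
      refine D.h.weak_closed fun w hw => ?_
      obtain ⟨x, hx, rfl⟩ := D.exists_F hw
      have hval : x ^^^ img uT x ∈ imVals uT uPre := by
        have h := List.all_eq_true.1 range_check _ (lin_mem_graph (gs := linGens uT)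
          (by simp [linGens, basisE]) hx)
        rw [D.lin_img huin hx] at h
        exact List.contains_iff_mem.1 h
      have h1 : D.F (x ^^^ img uT x) * D.φ (el uT) ∈ D.VC g :=
        mul_mem (hP _ (hall _ hval)).2 hu
      have hc : D.F x * D.φ (el uT) * (D.F x)⁻¹ = D.F (x ^^^ img uT x) * D.φ (el uT) := by
        rw [D.F_inv, mul_assoc, D.mul_φ_F _ huin hx rfl, ← mul_assoc, ← D.F_xor]
      have h2 : D.F (x ^^^ img uT x) * D.φ (el uT) ∈ D.VC (D.F x * g) := by
        rw [← hc, D.mem_VC]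
        have := D.mem_VC.1 hu
        rwa [show (D.F x * g)⁻¹ * (D.F x * D.φ (el uT) * (D.F x)⁻¹) * (D.F x * g) =
          g⁻¹ * D.φ (el uT) * g by group]
      have heq := D.VC_unique h1 h2 (hc ▸ D.TT_conj (D.TT_u hg) (D.F x))
      rw [inv_inv]
      refine mem_normalizer_iff.2 fun y => ?_
      have key : ∀ y, y ∈ D.VC g ↔ (D.F x)⁻¹ * y * D.F x ∈ D.VC g := fun y => by
        conv_lhs => rw [heq, D.mem_VC]
        rw [D.mem_VC, show (D.F x * g)⁻¹ * y * (D.F x * g) = g⁻¹ * ((D.F x)⁻¹ * y * D.F x) * g by group]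
      have h3 := key (g * (g⁻¹ * D.F x * g * y * (g⁻¹ * D.F x * g)⁻¹) * g⁻¹)
      rw [D.mem_VC, D.mem_VC,
        show g⁻¹ * (g * (g⁻¹ * D.F x * g * y * (g⁻¹ * D.F x * g)⁻¹) * g⁻¹) * g =
          g⁻¹ * D.F x * g * y * (g⁻¹ * D.F x * g)⁻¹ by group,
        show g⁻¹ * ((D.F x)⁻¹ * (g * (g⁻¹ * D.F x * g * y * (g⁻¹ * D.F x * g)⁻¹) * g⁻¹) * D.F x) * g = y
          by group] at h3
      exact h3.symm
    refine V_ne hu hg ?_
    ext x
    rw [D.mem_VC]
    have h1 := mem_normalizer_iff.1 hn x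
    rw [inv_inv] at h1
    exact h1.symm

include hga in
theorem card_inter_core : Nat.card ↥(D.VC g ⊓ core D.a) = 128 := by
  have e : D.VC g ⊓ core D.a = (D.h.V ⊓ core D.a).map (MulAut.conj g).toMonoidHom := by
    ext x
    rw [mem_inf, Ctx.mem_conj_map, mem_inf, D.mem_VC, ← core_conj_iff hga]
  rw [e, Subgroup.card_map_of_injective (MulAut.conj g).injective]
  exact D.S.card_core_V D.a_mem D.a_conj

include hga hu in
/-- Every element of the sextet group lifts into the conjugate. -/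
theorem exists_lift_U (hg : D.Good) {T : ℕ} (hT : T ∈ groupT) :
    ∃ s ∈ halfList, D.F s * D.φ (el T) ∈ D.VC g := by
  classical
  have hdec : ∀ x : ↥(D.VC g ⊓ core D.a), ∃ p : ℕ × ℕ, (p.1 ∈ halfList ∧ p.2 ∈ groupT) ∧
      (x : G) = D.F p.1 * D.φ (el p.2) := fun x => by
    obtain ⟨s, hs, T, hT, e⟩ := D.core_decomp (mem_inf.1 x.2).2
    exact ⟨(s, T), ⟨hs, hT⟩, e⟩
  choose p hp he using hdec
  haveI := Fintype.ofFinite ↥(D.VC g ⊓ core D.a)
  set I := Finset.univ.image fun x => (p x).2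
  have hsub : I ⊆ groupT.toFinset := fun T hT => by
    obtain ⟨x, -, rfl⟩ := Finset.mem_image.1 hT
    exact List.mem_toFinset.2 (hp x).2
  have hfib : ∀ T ∈ I, (Finset.univ.filter fun x => (p x).2 = T).card ≤ 2 := by
    intro T hT
    obtain ⟨x0, -, hx0⟩ := Finset.mem_image.1 hT
    have hx0' : (p x0).2 = T := hx0
    refine le_trans (Finset.card_le_card_of_injOn (fun x => ((x : G) * (x0 : G)⁻¹))
      (t := ({1, D.a} : Finset G)) ?_ ?_) Finset.card_le_two
    · intro x hx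
      have hxT : (p x).2 = T := (Finset.mem_filter.1 (Finset.mem_coe.1 hx)).2
      have e : (x : G) * (x0 : G)⁻¹ = D.F (p x).1 * (D.F (p x0).1)⁻¹ := by
        rw [he x, he x0, hxT, hx0']; group
      have hm : (x : G) * (x0 : G)⁻¹ ∈ D.VC g :=
        mul_mem (mem_inf.1 x.2).1 (inv_mem (mem_inf.1 x0.2).1)
      rw [Finset.mem_coe, Finset.mem_insert, Finset.mem_singleton]
      refine inter_V hga hu hg ?_ hm
      show (x : G) * (x0 : G)⁻¹ ∈ D.V
      rw [e]; exact mul_mem (D.F_mem _) (inv_mem (D.F_mem _))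
    · exact fun x _ y _ e => Subtype.ext (mul_right_cancel e)
  have h1 : (Finset.univ : Finset ↥(D.VC g ⊓ core D.a)).card ≤ 2 * I.card :=
    Finset.card_le_mul_card_image _ 2 hfib
  rw [Finset.card_univ, ← Nat.card_eq_fintype_card, card_inter_core hga] at h1
  have hlen : groupT.toFinset.card ≤ 64 := le_trans (List.toFinset_card_le _) half_check.2.2.le
  have hI : I = groupT.toFinset := Finset.eq_of_subset_of_card_le hsub (by omega)
  obtain ⟨x, -, hx⟩ := Finset.mem_image.1 (hI ▸ List.mem_toFinset.2 hT : T ∈ I)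
  have hxT : (p x).2 = T := hx
  exact ⟨(p x).1, (hp x).1, hxT ▸ he x ▸ (mem_inf.1 x.2).1⟩

include hga hu in
theorem stage_mem (hg : D.Good) {q : ℕ × List (ℕ × ℕ)} (hq : q ∈ stageList)
    (hbase : ∀ h ∈ q.2, baseFree.getD h.2 0 ∈ freeList.map Prod.fst ∧
      D.φ (el (baseFree.getD h.2 0)) ∈ D.VC g) : D.φ (el q.1) ∈ D.VC g := by
  have h := List.all_eq_true.1 stage_check q hq
  simp only [Bool.and_eq_true, List.all_eq_true, List.contains_iff_mem, Bool.or_eq_true, beq_iff_eq,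
    List.any_eq_true, decide_eq_true_eq, Bool.not_eq_true', Bool.or_eq_false_iff, beq_eq_false_iff_ne] at h
  obtain ⟨⟨hT, hgen⟩, hfx⟩ := h
  obtain ⟨hTg, -⟩ := free_facts hT
  have hin := group_mem hTg
  obtain ⟨s, hs, hm⟩ := exists_lift_U hga hu hg hTg
  have hse := half_facts.2.2.2.2.1 s hs
  have hsq := D.VC_sq hm
  have hT2 : el q.1 * el q.1 = 1 := D.φ_injective (by
    rw [map_mul, map_one]; exact (D.TT_free hg hT).1)
  have hfix := (D.sq_iff hin hT2 hse).1 hsq
  have hF : D.F s ∈ D.VC g := by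
    rcases hfx s (List.mem_filter.2 ⟨hs, beq_iff_eq.2 hfix⟩) with (e | e) | ⟨h', hh', hne⟩
    · rw [e, D.F_zero]; exact one_mem _
    · rw [e]; exact a_VC hga
    · exfalso
      obtain ⟨⟨⟨hin', -⟩, hc1⟩, hc2⟩ := hgen h' hh'
      obtain ⟨hb1, hb2⟩ := hbase h' hh'
      have hbin := group_mem (free_facts hb1).1
      have hn := D.cent_norm hb2 (D.TT_free hg hb1) (x := D.φ (el h'.1))
        (by rw [← map_mul, ← map_mul, el_mul_eq hin' hbin hbin hin' hc2])
      have hm' := (mem_normalizer_iff.1 hn _).1 hm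
      have e : D.φ (el h'.1) * (D.F s * D.φ (el q.1)) * (D.φ (el h'.1))⁻¹ =
          D.F (img h'.1 s) * D.φ (el q.1) := by
        have hcq : D.φ (el h'.1) * D.φ (el q.1) * (D.φ (el h'.1))⁻¹ = D.φ (el q.1) := by
          rw [← map_mul, el_mul_eq hin' hin hin hin' hc1, map_mul, mul_inv_cancel_right]
        rw [← D.conj_el hin' hse,
          show D.φ (el h'.1) * (D.F s * D.φ (el q.1)) * (D.φ (el h'.1))⁻¹ =
            D.φ (el h'.1) * D.F s * (D.φ (el h'.1))⁻¹ *
              (D.φ (el h'.1) * D.φ (el q.1) * (D.φ (el h'.1))⁻¹) by group, hcq]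
      have hev := ev_img (validT_of_inM24 hin') hse
      have h2 : D.F (s ^^^ img h'.1 s) ∈ D.VC g := by
        have h3 := mul_mem hm (inv_mem (e ▸ hm'))
        rwa [show D.F s * D.φ (el q.1) * (D.F (img h'.1 s) * D.φ (el q.1))⁻¹ =
          D.F s * (D.F (img h'.1 s))⁻¹ by group, D.F_inv, ← D.F_xor] at h3
      have hae := (isSext_ev half_facts.1).1
      rcases inter_V hga hu hg (D.F_mem _) h2 with e' | e'
      · exact hne.1 (D.F_inj (ev_xor hse hev) ev_zero (e'.trans D.F_zero.symm))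
      · exact hne.2 (D.F_inj (ev_xor hse hev) hae e')
  simpa using mul_mem (inv_mem hF) hm

include hga hu in
theorem base_mem (hg : D.Good) : ∀ i, i < 3 → baseFree.getD i 0 ∈ freeList.map Prod.fst ∧
    D.φ (el (baseFree.getD i 0)) ∈ D.VC g := by
  have h := stage_order_check
  simp only [Bool.and_eq_true, beq_iff_eq, List.all_eq_true, List.contains_iff_mem] at h
  obtain ⟨⟨⟨h0, htake⟩, hfst⟩, hfree⟩ := h
  have hlen : baseFree.length = 3 := rfl
  have hmem : ∀ i, i < 3 → baseFree.getD i 0 ∈ baseFree := fun i hi => by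
    rw [List.getD_eq_getElem _ _ (hlen ▸ hi)]; exact List.getElem_mem _
  intro i hi
  refine ⟨hfree _ (hmem i hi), ?_⟩
  rcases i with _ | i
  · rw [h0]; exact hu
  · have hd : baseFree.getD (i + 1) 0 ∈ baseFree.drop 1 := by
      rw [List.getD_eq_getElem _ _ (hlen ▸ hi), List.mem_drop_iff_getElem]
      exact ⟨i, by omega, by simp [Nat.add_comm]⟩
    rw [← hfst] at hd
    obtain ⟨q, hq, e⟩ := List.mem_map.1 hd
    rw [← e]
    refine stage_mem hga hu hg (List.mem_of_mem_take hq) fun h' hh' => ?_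
    rw [htake q hq h' hh']
    exact ⟨hfree _ (hmem 0 (by norm_num)), h0.symm ▸ hu⟩

include hga hu in
theorem gens_mem (hg : D.Good) {T : ℕ} (hT : T ∈ wordGens) : inM24 T = true ∧ D.φ (el T) ∈ D.VC g := by
  rcases List.mem_append.1 hT with h | h
  · obtain ⟨i, hi, rfl⟩ := List.getElem_of_mem h
    have hb := base_mem hga hu hg i hi
    rw [List.getD_eq_getElem _ _ hi] at hb
    exact ⟨group_mem (free_facts hb.1).1, hb.2⟩
  · obtain ⟨q, hq, rfl⟩ := List.mem_map.1 h
    have hq' := List.mem_of_mem_drop hq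
    have hc := List.all_eq_true.1 stage_check q hq'
    simp only [Bool.and_eq_true, List.all_eq_true, List.contains_iff_mem, decide_eq_true_eq] at hc
    exact ⟨group_mem (free_facts hc.1.1).1,
      stage_mem hga hu hg hq' fun h' hh' => base_mem hga hu hg h'.2 (hc.1.2 h' hh').1.1.2⟩

include hga hu in
theorem group_VC (hg : D.Good) {T : ℕ} (hT : T ∈ groupT) : D.φ (el T) ∈ D.VC g := by
  obtain ⟨q, hq, rfl⟩ := List.mem_map.1 hT
  have h := List.all_eq_true.1 word_check q hq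
  simp only [Bool.and_eq_true, List.all_eq_true, decide_eq_true_eq] at h
  obtain ⟨hlt, he⟩ := h
  suffices key : ∀ (w : List ℕ), (∀ i ∈ w, i < wordGens.length) → ∀ acc, inM24 acc = true →
      D.φ (el acc) ∈ D.VC g →
      inM24 (w.foldl (fun a i => tblMul a (wordGens.getD i 0)) acc) = true ∧
        D.φ (el (w.foldl (fun a i => tblMul a (wordGens.getD i 0)) acc)) ∈ D.VC g by
    have hi : inM24 idTbl = true := by decide +kernel
    obtain ⟨h1, h2⟩ := key q.2 hlt idTbl hi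
      (by rw [el_eq_one hi (by decide +kernel), map_one]; exact one_mem _)
    have e : el (q.2.foldl (fun a i => tblMul a (wordGens.getD i 0)) idTbl) = el q.1 := Subtype.ext (by
      rw [el_coe h1, el_coe (group_mem hT),
        mkPerm_eq_of_tblEq (validT_of_inM24 h1) (validT_of_inM24 (group_mem hT)) he])
    rw [← e]; exact h2
  intro w
  induction w with
  | nil => intro _ acc ha hm; exact ⟨ha, hm⟩
  | cons i w ih =>
    intro hw acc ha hm
    have hi : i < wordGens.length := hw i List.mem_cons_self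
    obtain ⟨hb, hbm⟩ := gens_mem hga hu hg
      (show wordGens.getD i 0 ∈ wordGens by
        rw [List.getD_eq_getElem _ _ hi]; exact List.getElem_mem hi)
    have hsp := tblMul_spec (validT_of_inM24 ha) (validT_of_inM24 hb)
    have hin : inM24 (tblMul acc (wordGens.getD i 0)) = true := (inM24_iff hsp.1).2 (by
      rw [hsp.2, ← el_coe ha, ← el_coe hb]; exact mul_mem (el acc).2 (el _).2)
    rw [List.foldl_cons]
    refine ih (fun j hj => hw j (List.mem_cons_of_mem _ hj)) _ hin ?_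
    rw [show el (tblMul acc (wordGens.getD i 0)) = el acc * el (wordGens.getD i 0) from Subtype.ext (by
      rw [Subgroup.coe_mul, el_coe hin, el_coe ha, el_coe hb, hsp.2]), map_mul]
    exact mul_mem hm hbm

end Uni

namespace Uni

variable (D : Uni G)

/-- A conjugate of `V` attached to a sextet. -/
def IsHex (a : ℕ) (g : G) : Prop :=
  Commute g (D.F a) ∧ D.F a ∈ D.VC g ∧ (∀ σ, D.φ σ ∈ core (D.F a) → D.φ σ ∈ D.VC g) ∧
    ∀ v ∈ D.V, v ∈ D.VC g → v = 1 ∨ v = D.F a

theorem exists_hex_a (hg : D.Good) : ∃ g, D.IsHex aS g := by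
  obtain ⟨g, hga, hu⟩ := D.exists_U hg
  refine ⟨g, hga, a_VC hga, fun σ hσ => ?_, fun v hv hvU => inter_V hga hu hg hv hvU⟩
  obtain ⟨s, -, T, hT, e⟩ := D.core_decomp hσ
  have e' : 1 * D.φ σ = D.F s * D.φ (el T) := by rw [one_mul]; exact e
  rw [(D.decomp_unique (one_mem _) (D.F_mem s) e').2]
  exact group_VC hga hu hg hT

/-- **Every sextet has such a conjugate.** -/
theorem exists_hex (hg : D.Good) {b : ℕ} (hb : isSext b = true) : ∃ g, D.IsHex b g := by
  obtain ⟨g, hga, haU, hX, hV⟩ := D.exists_hex_a hg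
  have hbe := (isSext_ev hb).1
  obtain ⟨k1, hk1, e1⟩ := D.S.exists_K_conj D.a_mem D.a_conj
  obtain ⟨k2, hk2, e2⟩ := D.S.exists_K_conj (D.F_mem b) ((D.F_isConj hbe).2 hb)
  obtain ⟨ρ, hρ⟩ := D.φ_surj (mul_mem hk2 (inv_mem hk1))
  set k := D.φ ρ with hk
  have hab : k * D.F aS * k⁻¹ = D.F b := by
    rw [hρ, ← e2, show D.F aS = k1 * D.c.z * k1⁻¹ from e1.symm]; group
  have hkN : k ∈ normalizer (D.V : Set G) := D.φ_mem_normalizer ρ
  have hmem : ∀ x, x ∈ D.VC (k * g * k⁻¹) ↔ k⁻¹ * x * k ∈ D.VC g := fun x => by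
    rw [D.mem_VC, D.mem_VC, show (k * g * k⁻¹)⁻¹ * x * (k * g * k⁻¹) =
      k * (g⁻¹ * (k⁻¹ * x * k) * g) * k⁻¹ by group]
    exact (mem_normalizer_iff.1 hkN _).symm
  refine ⟨k * g * k⁻¹, ?_, (hmem _).2 ?_, fun σ hσ => (hmem _).2 ?_, fun v hv hvU => ?_⟩
  · rw [← hab]
    show k * g * k⁻¹ * (k * D.F aS * k⁻¹) = k * D.F aS * k⁻¹ * (k * g * k⁻¹)
    calc k * g * k⁻¹ * (k * D.F aS * k⁻¹) = k * (g * D.F aS) * k⁻¹ := by group
      _ = k * (D.F aS * g) * k⁻¹ := by rw [hga.eq]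
      _ = _ := by group
  · rwa [← hab, show k⁻¹ * (k * D.F aS * k⁻¹) * k = D.F aS by group]
  · rw [hk, ← map_inv, ← map_mul, ← map_mul]
    refine hX _ ?_
    rw [map_mul, map_mul, map_inv, ← hk]
    rw [← hab, core, twoCore_conj, Ctx.mem_conj_map] at hσ
    exact hσ
  · rcases hV _ ((mem_normalizer_iff''.1 hkN v).1 hv) ((hmem v).1 hvU) with e | e
    · left; rw [show v = k * (k⁻¹ * v * k) * k⁻¹ by group, e]; group
    · right; rw [show v = k * (k⁻¹ * v * k) * k⁻¹ by group, e, hab]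

/-- A table conjugate into the listed sextet group lies in the core. -/
theorem table_core {b T R : ℕ} (hR : inM24 R = true) (hT : inM24 T = true) {T' : ℕ} (hT' : T' ∈ groupT)
    (hb : img R aS = b) (h : tblEq (tblMul T R) (tblMul R T') = true) :
    D.φ (el T) ∈ core (D.F b) := by
  rw [← hb, ← D.conj_el hR (isSext_ev half_facts.1).1, core, twoCore_conj, Ctx.mem_conj_map,
    ← map_inv, ← map_mul, ← map_mul,
    show (el R)⁻¹ * el T * el R = el T' by
      rw [mul_assoc, el_mul_eq hT hR hR (group_mem hT') h, inv_mul_cancel_left]]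
  exact D.group_core hT'

end Uni

end Cfsg.Agent.H93.J4U
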