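import Cfsg.Agent.H93.J4U.Code
import Cfsg.Agent.H38.JFour.Records
import Cfsg.Agent.H98.JFour.Assembly

/-!
Groups of Janko-four type with a chosen complement to `V` in its normaliser: the standing data for the
uniqueness proof, and the fact that an involution outside the class of `z` lies in only one conjugate of `V`.
-/

set_option autoImplicit false
set_option linter.style.haveILetI false

namespace Cfsg.Agent.H93.J4U

open Cfsg Cfsg.Agent.Golay Subgroup H43.JFour H98.JFour H38.JFour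

universe u

variable {G : Type u} [Group G] [Finite G]

/-- The standing data. -/
structure Uni (G : Type u) [Group G] [Finite G] where
  simple : IsSimpleGroup G
  hG : ¬ IsMulCommutative G
  c : Ctx G (MulAut ↥Cfsg.Spor.M22)
  W : Subgroup (MulAut ↥Cfsg.Spor.M22)
  h : Pkg c innM22 W
  hti : HexTI W
  K : Subgroup G
  t : h.V
  S : Setting h K t
  cent : ∀ v ∈ h.V, v ≠ 1 → ¬ IsConj c.z v →
    centralizer ({v} : Set G) ≤ normalizer (h.V : Set G)

namespace Uni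

variable (D : Uni G)

/-- the involution of the hypothesis -/
abbrev z : G := D.c.z

/-- the elementary abelian group of order `2 ^ 11` -/
abbrev V : Subgroup G := D.h.V

/-- the element of `V` of a syndrome -/
noncomputable def F (s : ℕ) : G := D.S.F s

/-- An involution outside the class of `z`. -/
def TT (x : G) : Prop := x * x = 1 ∧ x ≠ 1 ∧ ¬ IsConj D.z x

/-- The complement inside the normaliser. -/
def KN : Subgroup ↥(normalizer (D.V : Set G)) := D.K.subgroupOf (normalizer (D.V : Set G))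

theorem bij_KN : Function.Bijective (D.S.Φ.comp D.KN.subtype) := by
  constructor
  · intro a b e
    exact Subtype.ext (D.S.Φ_inj_K a.2 b.2 e)
  · intro σ
    obtain ⟨k, hk, e⟩ := D.S.exists_lift σ
    exact ⟨⟨k, hk⟩, e⟩

/-- The element of the complement inducing a permutation. -/
noncomputable def φ : ↥Cfsg.M24 →* G :=
  ((normalizer (D.V : Set G)).subtype.comp D.KN.subtype).comp
    (MulEquiv.ofBijective _ D.bij_KN).symm.toMonoidHom

theorem φ_mem (σ : ↥Cfsg.M24) : D.φ σ ∈ D.K :=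
  ((MulEquiv.ofBijective _ D.bij_KN).symm σ).2

theorem φ_mem_normalizer (σ : ↥Cfsg.M24) : D.φ σ ∈ normalizer (D.V : Set G) :=
  D.S.hK.le (D.φ_mem σ)

theorem Φ_φ (σ : ↥Cfsg.M24) : D.S.Φ ⟨D.φ σ, D.φ_mem_normalizer σ⟩ = σ :=
  (MulEquiv.ofBijective _ D.bij_KN).apply_symm_apply σ

theorem φ_injective : Function.Injective D.φ := fun a b e => by
  rw [← D.Φ_φ a, ← D.Φ_φ b]; simp only [e]

theorem φ_surj {k : G} (hk : k ∈ D.K) : ∃ σ, D.φ σ = k := by
  refine ⟨D.S.Φ ⟨k, D.S.hK.le hk⟩, ?_⟩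
  have := D.S.Φ_inj_K (k := ⟨_, D.φ_mem_normalizer (D.S.Φ ⟨k, D.S.hK.le hk⟩)⟩)
    (k' := ⟨k, D.S.hK.le hk⟩) (D.φ_mem _) hk (D.Φ_φ _)
  exact congrArg Subtype.val this

theorem φ_range : D.φ.range = D.K := by
  refine le_antisymm ?_ fun k hk => D.φ_surj hk
  rintro _ ⟨σ, rfl⟩
  exact D.φ_mem σ

theorem F_mem (s : ℕ) : D.F s ∈ D.V := D.S.F_mem s

theorem F_xor (a b : ℕ) : D.F (a ^^^ b) = D.F a * D.F b := D.S.F_xor a b

theorem F_zero : D.F 0 = 1 := D.S.F_zero

theorem F_inj {a b : ℕ} (ha : ev a = true) (hb : ev b = true) (e : D.F a = D.F b) : a = b :=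
  D.S.F_inj ha hb e

theorem exists_F {v : G} (hv : v ∈ D.V) : ∃ s, ev s = true ∧ D.F s = v := D.S.exists_F hv

theorem F_isConj {s : ℕ} (hs : ev s = true) : IsConj D.z (D.F s) ↔ isSext s = true :=
  D.S.F_isConj hs

theorem F_TT {s : ℕ} (hs : ev s = true) : D.TT (D.F s) ↔ isDuad s = true := by
  refine ⟨fun ⟨_, h1, h2⟩ => ?_, fun hd => ⟨D.S.F_sq s, ?_, ?_⟩⟩
  · by_contra hd
    refine h2 ((D.F_isConj hs).2 ?_)
    have hne : s ≠ 0 := fun e => h1 (by rw [e, D.F_zero])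
    simp [isSext, hs, hne, Bool.not_eq_true _ ▸ hd]
  · exact fun e => (ev_of_isDuad hd).2 ((D.S.F_eq_one hs).1 e)
  · rw [D.F_isConj hs]
    simp [isSext, hd]

/-- The action of the complement on syndromes. -/
theorem conj_F (σ : ↥Cfsg.M24) {T s : ℕ} (hT : validT T = true)
    (hσ : mkPerm T = (σ : Equiv.Perm GolayPt)) (hs : ev s = true) :
    ev (img T s) = true ∧ D.φ σ * D.F s * (D.φ σ)⁻¹ = D.F (img T s) := by
  refine ⟨ev_img hT hs, ?_⟩
  letI := D.h.commV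
  let n : ↥(normalizer (D.V : Set G)) := ⟨D.φ σ, D.φ_mem_normalizer σ⟩
  have hσ' : mkPerm T = ((D.S.Φ n : ↥Cfsg.M24) : Equiv.Perm GolayPt) := by rw [D.Φ_φ]; exact hσ
  have h1 := congrArg Subtype.val
    (D.S.D.φ_img (D.h.conjV.rangeRestrict n) hT hσ' (ev_card hs))
  rw [MonoidHom.coe_rangeRestrict, D.h.conjV_apply] at h1
  exact h1

theorem decomp {x : G} (hx : x ∈ normalizer (D.V : Set G)) : ∃ v ∈ D.V, ∃ σ, x = v * D.φ σ := by
  obtain ⟨v, hv, k, hk, rfl⟩ := D.S.hK.decomp hx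
  obtain ⟨σ, rfl⟩ := D.φ_surj hk
  exact ⟨v, hv, σ, rfl⟩

theorem φ_mem_V_iff {σ : ↥Cfsg.M24} : D.φ σ ∈ D.V ↔ σ = 1 := by
  refine ⟨fun hm => ?_, fun e => by rw [e, map_one]; exact one_mem _⟩
  rw [← D.Φ_φ σ]
  exact (D.S.Φ_ker _).2 hm

theorem decomp_unique {v v' : G} (hv : v ∈ D.V) (hv' : v' ∈ D.V) {σ σ' : ↥Cfsg.M24}
    (e : v * D.φ σ = v' * D.φ σ') : v = v' ∧ σ = σ' := by
  obtain ⟨h1, h2⟩ := D.S.hK.unique hv hv' (D.φ_mem σ) (D.φ_mem σ') e
  exact ⟨h1, D.φ_injective h2⟩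

/-- The conjugate of `V` by `g`. -/
def VC (g : G) : Subgroup G := D.V.map (MulAut.conj g).toMonoidHom

theorem mem_VC {g x : G} : x ∈ D.VC g ↔ g⁻¹ * x * g ∈ D.V := Ctx.mem_conj_map ..

theorem VC_one : D.VC 1 = D.V := by
  ext x; rw [mem_VC]; simp

theorem cent_VC {g e : G} (he : e ∈ D.VC g) (ht : D.TT e) {x : G} (hx : x * e = e * x) :
    g⁻¹ * x * g ∈ normalizer (D.V : Set G) := by
  have hv := D.mem_VC.1 he
  refine D.cent _ hv (fun e1 => ht.2.1 ?_) (fun hc => ht.2.2 ?_) ?_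
  · calc e = g * (g⁻¹ * e * g) * g⁻¹ := by group
      _ = 1 := by rw [e1]; group
  · refine hc.trans (isConj_iff.2 ⟨g, by group⟩)
  · rw [mem_centralizer_singleton_iff]
    calc g⁻¹ * x * g * (g⁻¹ * e * g) = g⁻¹ * (x * e) * g := by group
      _ = g⁻¹ * e * g * (g⁻¹ * x * g) := by rw [hx]; group

/-- Conjugation by an element commuting with `e` fixes a conjugate of `V` holding `e`. -/
theorem cent_norm {g e : G} (he : e ∈ D.VC g) (ht : D.TT e) {x : G} (hx : x * e = e * x) :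
    x ∈ normalizer (D.VC g : Set G) := by
  have h1 := D.cent_VC he ht hx
  rw [mem_normalizer_iff]
  intro y
  simp only [mem_VC]
  rw [show g⁻¹ * (x * y * x⁻¹) * g = (g⁻¹ * x * g) * (g⁻¹ * y * g) * (g⁻¹ * x * g)⁻¹ by group]
  exact mem_normalizer_iff.1 h1 _

/-- An involution outside the class of `z` lies in one conjugate of `V` only. -/
theorem VC_unique {g g' e : G} (he : e ∈ D.VC g) (he' : e ∈ D.VC g') (ht : D.TT e) :
    D.VC g = D.VC g' := by
  have hn : g⁻¹ * g' ∈ normalizer (D.V : Set G) := by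
    refine D.h.weak_closed fun v hv => ?_
    have hy : g' * v * g'⁻¹ ∈ D.VC g' := D.mem_VC.2 (by simpa [mul_assoc] using hv)
    have hc : g' * v * g'⁻¹ * e = e * (g' * v * g'⁻¹) := by
      have h1 := D.mem_VC.1 hy
      have h2 := D.mem_VC.1 he'
      have h3 := D.h.V_comm h1 h2
      calc g' * v * g'⁻¹ * e = g' * ((g'⁻¹ * (g' * v * g'⁻¹) * g') * (g'⁻¹ * e * g')) * g'⁻¹ := by group
        _ = g' * ((g'⁻¹ * e * g') * (g'⁻¹ * (g' * v * g'⁻¹) * g')) * g'⁻¹ := by rw [h3]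
        _ = e * (g' * v * g'⁻¹) := by group
    have := D.cent_VC he ht hc
    rwa [show g⁻¹ * (g' * v * g'⁻¹) * g = g⁻¹ * g' * v * (g⁻¹ * g')⁻¹ by group] at this
  ext x
  rw [mem_VC, mem_VC]
  have h1 := mem_normalizer_iff.1 hn (g'⁻¹ * x * g')
  rw [show g⁻¹ * g' * (g'⁻¹ * x * g') * (g⁻¹ * g')⁻¹ = g⁻¹ * x * g by group] at h1
  exact h1.symm

end Uni

end Cfsg.Agent.H93.J4U
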