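import Cfsg.Agent.H38.JFour.Cocode

/-!
Reduction of masks is linear and keeps the parity: images of even syndromes under tables are even syndromes.
-/

set_option autoImplicit false

namespace Cfsg.Agent.H93.J4U

open Cfsg Cfsg.Agent.Golay Cfsg.Agent.H38.JFour
open scoped Pointwise

theorem redStep_xor (a b : ℕ) (q : ℕ × ℕ) : redStep (a ^^^ b) q = redStep a q ^^^ redStep b q := by
  simp only [redStep, Nat.testBit_xor]
  cases a.testBit q.1 <;> cases b.testBit q.1 <;> apply Nat.eq_of_testBit_eq <;> intro i <;>
    simp [Nat.testBit_xor] <;> cases a.testBit i <;> cases b.testBit i <;> cases q.2.testBit i <;> rfl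

theorem red_xor (a b : ℕ) : red (a ^^^ b) = red a ^^^ red b := by
  unfold red
  induction rowList generalizing a b with
  | nil => rfl
  | cons q l ih => rw [List.foldl_cons, List.foldl_cons, List.foldl_cons, redStep_xor, ih]

/-- parity of the twenty-four lowest bits -/
def parity24 (s : ℕ) : Bool := (List.range 24).foldl (fun b i => xor b (s.testBit i)) false

theorem parity24_xor (a b : ℕ) : parity24 (a ^^^ b) = xor (parity24 a) (parity24 b) :=
  parity_xor_aux (List.range 24) a b false false

lemma unit_check : ((List.range 24).all fun i =>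
    decide (red (2 ^ i) < 2 ^ 12) && (parity24 (red (2 ^ i)) == parity24 (2 ^ i))) = true ∧
    ((List.range (2 ^ 12)).all fun s => parity24 s == parity s) = true := by
  decide +kernel

theorem red_facts : ∀ n ≤ 24, ∀ m < 2 ^ n, red m < 2 ^ 12 ∧ parity24 (red m) = parity24 m := by
  intro n
  induction n with
  | zero =>
    intro _ m hm
    obtain rfl : m = 0 := by simpa using hm
    constructor <;> decide +kernel
  | succ n ih =>
    intro hn m hm
    have hu := List.all_eq_true.1 unit_check.1 n (List.mem_range.2 (by omega))
    rw [Bool.and_eq_true, decide_eq_true_eq, beq_iff_eq] at hu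
    by_cases hb : m.testBit n = true
    · have hlt : m ^^^ 2 ^ n < 2 ^ n := by
        refine Nat.lt_pow_two_of_testBit _ fun i hi => ?_
        rw [Nat.testBit_xor, Nat.testBit_two_pow]
        rcases Nat.eq_or_lt_of_le hi with rfl | h
        · simp [hb]
        · rw [Nat.testBit_lt_two_pow (lt_of_lt_of_le hm (Nat.pow_le_pow_right (by norm_num) h))]
          simp [h.ne]
      obtain ⟨h1, h2⟩ := ih (by omega) _ hlt
      have e : m = (m ^^^ 2 ^ n) ^^^ 2 ^ n := by rw [Nat.xor_assoc, Nat.xor_self, Nat.xor_zero]
      rw [e, red_xor, parity24_xor, parity24_xor, h2, hu.2]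
      exact ⟨Nat.xor_lt_two_pow h1 hu.1, rfl⟩
    · refine ih (by omega) m (Nat.lt_pow_two_of_testBit _ fun i hi => ?_)
      rcases Nat.eq_or_lt_of_le hi with rfl | h
      · simpa using hb
      · exact Nat.testBit_lt_two_pow (lt_of_lt_of_le hm (Nat.pow_le_pow_right (by norm_num) h))

theorem foldl_xor (l : List ℕ) (s : ℕ) (b : Bool) :
    l.foldl (fun b i => xor b (s.testBit i)) b =
      xor b (decide ((l.filter fun i => s.testBit i).length % 2 = 1)) := by
  induction l generalizing b with
  | nil => simp
  | cons a l ih =>
    rw [List.foldl_cons, ih, List.filter_cons]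
    cases hh : s.testBit a
    · simp
    · simp only [if_pos, List.length_cons]
      rcases Nat.mod_two_eq_zero_or_one ((l.filter fun i => s.testBit i).length) with h | h <;>
        simp [Nat.succ_mod_two_eq_one_iff, h]

theorem card_ptSet (s : ℕ) :
    (ptSet s).card = ((List.range 24).filter fun i => s.testBit i).length := by
  classical
  have he : ptSet s = ((List.range 24).filter fun i => s.testBit i).toFinset.image pt := by
    ext p
    rw [mem_ptSet, Finset.mem_image]
    constructor
    · intro hp
      exact ⟨idx p, List.mem_toFinset.2 (List.mem_filter.2 ⟨List.mem_range.2 (idx_lt p), hp⟩), pt_idx p⟩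
    · rintro ⟨i, hi, rfl⟩
      obtain ⟨hi', hb⟩ := List.mem_filter.1 (List.mem_toFinset.1 hi)
      rwa [idx_pt i (List.mem_range.1 hi')]
  rw [he, Finset.card_image_of_injOn, List.toFinset_card_of_nodup (List.nodup_range.filter _)]
  intro i hi j hj e
  rw [Finset.mem_coe, List.mem_toFinset, List.mem_filter, List.mem_range] at hi hj
  exact (pt_inj hi.1 hj.1).1 e

theorem parity24_eq (s : ℕ) : parity24 s = false ↔ Even (ptSet s).card := by
  rw [parity24, foldl_xor, card_ptSet, Nat.even_iff, Bool.false_xor, decide_eq_false_iff_not]
  omega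

/-- Images of even syndromes under tables of permutations are even syndromes. -/
theorem ev_img {T s : ℕ} (hT : validT T = true) (hs : ev s = true) : ev (img T s) = true := by
  classical
  obtain ⟨h1, h2⟩ := red_facts 24 le_rfl _ (tblImg_lt hT s)
  have h3 : parity24 (tblImg T s) = false := by
    rw [parity24_eq, ptSet_tblImg hT, Finset.card_smul_finset]
    exact ev_card hs
  have h4 := List.all_eq_true.1 unit_check.2 _ (List.mem_range.2 h1)
  rw [beq_iff_eq] at h4
  simp only [img, ev, Bool.and_eq_true, Bool.not_eq_true']
  exact ⟨decide_eq_true h1, by rw [← h4, h2, h3]⟩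

end Cfsg.Agent.H93.J4U
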