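import Cfsg.Agent.H93.J4U.Base

/-!
Elements of the complement given by tables, and its action on the syndromes of pairs.
-/

set_option autoImplicit false
set_option linter.style.haveILetI false

namespace Cfsg.Agent.H93.J4U

open Cfsg Cfsg.Agent.Golay Subgroup H43.JFour H98.JFour H38.JFour

universe u

/-- The element of `M₂₄` of a table (the identity for other numbers). -/
noncomputable def el (T : ℕ) : ↥Cfsg.M24 :=
  if h : inM24 T = true then ⟨mkPerm T, mem_M24_of_inM24 h⟩ else 1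

theorem el_coe {T : ℕ} (h : inM24 T = true) : (el T : Equiv.Perm GolayPt) = mkPerm T := by
  rw [el, dif_pos h]

theorem el_eq {T : ℕ} (h : inM24 T = true) : el T = ⟨mkPerm T, mem_M24_of_inM24 h⟩ :=
  Subtype.ext (el_coe h)

theorem el_mul {A B C : ℕ} (hA : inM24 A = true) (hB : inM24 B = true) (hC : inM24 C = true)
    (h : tblEq (tblMul A B) C = true) : el A * el B = el C := by
  apply Subtype.ext
  rw [Subgroup.coe_mul, el_coe hA, el_coe hB, el_coe hC]
  obtain ⟨hv, he⟩ := tblMul_spec (validT_of_inM24 hA) (validT_of_inM24 hB)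
  rw [← he, mkPerm_eq_of_tblEq hv (validT_of_inM24 hC) h]

theorem el_comm {A B : ℕ} (hA : inM24 A = true) (hB : inM24 B = true)
    (h : tblEq (tblMul A B) (tblMul B A) = true) : Commute (el A) (el B) := by
  apply Subtype.ext
  rw [Subgroup.coe_mul, Subgroup.coe_mul, el_coe hA, el_coe hB]
  obtain ⟨hv, he⟩ := tblMul_spec (validT_of_inM24 hA) (validT_of_inM24 hB)
  obtain ⟨hv', he'⟩ := tblMul_spec (validT_of_inM24 hB) (validT_of_inM24 hA)
  rw [← he, ← he', mkPerm_eq_of_tblEq hv hv' h]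

theorem el_sq {A : ℕ} (hA : inM24 A = true) (h : tblEq (tblMul A A) idTbl = true) :
    el A * el A = 1 := by
  apply Subtype.ext
  rw [Subgroup.coe_mul, el_coe hA]
  obtain ⟨hv, he⟩ := tblMul_spec (validT_of_inM24 hA) (validT_of_inM24 hA)
  rw [← he, mkPerm_eq_of_tblEq hv idTbl_spec.1 h, idTbl_spec.2]
  rfl

theorem el_ne {A B : ℕ} (hA : inM24 A = true) (hB : inM24 B = true) (h : tblEq A B = false) :
    el A ≠ el B := by
  intro e
  have e' : mkPerm A = mkPerm B := by rw [← el_coe hA, ← el_coe hB, e]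
  have : tblEq A B = true := by
    rw [tblEq, List.all_eq_true]
    intro i hi
    rw [List.mem_range] at hi
    rw [beq_iff_eq]
    have h1 := idx_mkPerm (validT_of_inM24 hA) (pt i)
    have h2 := idx_mkPerm (validT_of_inM24 hB) (pt i)
    rw [idx_pt i hi] at h1 h2
    rw [← h1, ← h2, e']
  rw [this] at h
  exact Bool.noConfusion h

/-- The syndrome of a pair of points. -/
def pairP (a b : GolayPt) : ℕ := pairS (idx a) (idx b)

namespace Uni

variable {G : Type u} [Group G] [Finite G] (D : Uni G)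

theorem conj_el {T s : ℕ} (hT : inM24 T = true) (hs : ev s = true) :
    D.φ (el T) * D.F s * (D.φ (el T))⁻¹ = D.F (img T s) :=
  (D.conj_F (el T) (validT_of_inM24 hT) (el_coe hT).symm hs).2

theorem conj_pair (σ : ↥Cfsg.M24) (a b : GolayPt) :
    D.φ σ * D.F (pairP a b) * (D.φ σ)⁻¹ =
      D.F (pairP ((σ : Equiv.Perm GolayPt) a) ((σ : Equiv.Perm GolayPt) b)) := by
  letI := D.h.commV
  let n : ↥(normalizer (D.V : Set G)) := ⟨D.φ σ, D.φ_mem_normalizer σ⟩
  have h1 := congrArg Subtype.val (D.S.D.equiv (D.h.conjV.rangeRestrict n) a b)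
  rw [MonoidHom.coe_rangeRestrict, D.h.conjV_apply] at h1
  have e : ∀ p q, D.F (pairP p q) = ((D.S.D.g p * D.S.D.g q : D.h.V) : G) := fun p q => by
    show ((D.S.D.φ (pairS (idx p) (idx q)) : D.h.V) : G) = _
    rw [D.S.D.φ_pair (idx_lt p) (idx_lt q), pt_idx, pt_idx]
  rw [e, e]
  have hσ : ((D.S.D.Ψ (D.h.conjV.rangeRestrict n) : ↥Cfsg.M24)) = σ := D.Φ_φ σ
  rw [hσ] at h1
  exact h1

theorem F_pair_add (a b d : GolayPt) :
    D.F (pairP a b) * D.F (pairP b d) = D.F (pairP a d) := by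
  letI := D.h.commV
  have e : ∀ p q, D.F (pairP p q) = ((D.S.D.g p * D.S.D.g q : D.h.V) : G) := fun p q => by
    show ((D.S.D.φ (pairS (idx p) (idx q)) : D.h.V) : G) = _
    rw [D.S.D.φ_pair (idx_lt p) (idx_lt q), pt_idx, pt_idx]
  rw [e, e, e, ← Subgroup.coe_mul]
  congr 1
  rw [mul_assoc, ← mul_assoc (D.S.D.g b), D.S.D.sq, one_mul]

/-! ### The twisted complement -/

/-- The cocycle of a point. -/
noncomputable def tw (σ : ↥Cfsg.M24) : G :=
  D.F (pairP (pt 0) ((σ : Equiv.Perm GolayPt) (pt 0)))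

theorem tw_mul (σ τ : ↥Cfsg.M24) :
    D.tw (σ * τ) = D.tw σ * (D.φ σ * D.tw τ * (D.φ σ)⁻¹) := by
  rw [tw, tw, tw, D.conj_pair, D.F_pair_add, Subgroup.coe_mul, Equiv.Perm.mul_apply]

/-- The twisted section. -/
noncomputable def twHom : ↥Cfsg.M24 →* G :=
  MonoidHom.mk' (fun σ => D.tw σ * D.φ σ) fun σ τ => by
    show D.tw (σ * τ) * D.φ (σ * τ) = _
    rw [D.tw_mul, map_mul]; group

theorem twHom_apply (σ : ↥Cfsg.M24) : D.twHom σ = D.tw σ * D.φ σ := rfl

theorem twHom_norm (σ : ↥Cfsg.M24) : D.twHom σ ∈ normalizer (D.V : Set G) := by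
  rw [twHom_apply]
  exact mul_mem (le_normalizer (D.F_mem _)) (D.φ_mem_normalizer σ)

theorem twHom_compl : Compl D.h D.twHom.range := by
  refine ⟨?_, ?_, ?_⟩
  · rintro _ ⟨σ, rfl⟩; exact D.twHom_norm σ
  · rw [eq_bot_iff]
    rintro x ⟨⟨σ, rfl⟩, hx⟩
    rw [mem_bot, twHom_apply] at *
    obtain ⟨-, hσ⟩ := D.decomp_unique (σ := σ) (σ' := 1) (show D.tw σ ∈ D.V from D.F_mem _) hx
      (by rw [map_one, mul_one])
    rw [hσ, map_one, mul_one, tw, Subgroup.coe_one, Equiv.Perm.one_apply, pairP]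
    show D.F (pairS (idx (pt 0)) (idx (pt 0))) = 1
    rw [show pairS (idx (pt 0)) (idx (pt 0)) = 0 by decide +kernel]
    exact D.F_zero
  · refine le_antisymm (sup_le le_normalizer ?_) fun x hx => ?_
    · rintro _ ⟨σ, rfl⟩; exact D.twHom_norm σ
    · obtain ⟨v, hv, σ, rfl⟩ := D.decomp hx
      have e : v * D.φ σ = v * (D.tw σ)⁻¹ * D.twHom σ := by rw [twHom_apply]; group
      rw [e]
      exact mul_mem_sup (mul_mem hv (inv_mem (D.F_mem _))) ⟨σ, rfl⟩

/-- The standing data with the twisted complement. -/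
noncomputable def twist : Uni G where
  simple := D.simple
  hG := D.hG
  c := D.c
  W := D.W
  h := D.h
  hti := D.hti
  K := D.twHom.range
  t := D.t
  S := ⟨D.S.hF, D.S.hE, D.twHom_compl, D.S.ht, D.S.D⟩
  cent := D.cent

theorem twist_F (s : ℕ) : D.twist.F s = D.F s := rfl

theorem twist_φ (σ : ↥Cfsg.M24) : D.twist.φ σ = D.twHom σ := by
  obtain ⟨τ, hτ⟩ := D.twist.φ_surj (k := D.twHom σ) ⟨σ, rfl⟩
  suffices τ = σ by rw [← hτ, this]
  have h1 : D.twist.S.Φ ⟨D.twist.φ τ, D.twist.φ_mem_normalizer τ⟩ = τ := D.twist.Φ_φ τ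
  have h2 : D.S.Φ ⟨D.twHom σ, D.twHom_norm σ⟩ = σ := by
    have h3 : (⟨D.twHom σ, D.twHom_norm σ⟩ : ↥(normalizer (D.V : Set G))) =
        ⟨D.tw σ, le_normalizer (D.F_mem _)⟩ * ⟨D.φ σ, D.φ_mem_normalizer σ⟩ := Subtype.ext rfl
    rw [h3, map_mul, (D.S.Φ_ker ⟨D.tw σ, _⟩).2 (D.F_mem _), one_mul, D.Φ_φ]
  rw [← h1, ← h2]
  show D.S.Φ _ = D.S.Φ _
  exact congrArg D.S.Φ (Subtype.ext hτ)

end Uni

end Cfsg.Agent.H93.J4U
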