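import Cfsg.Agent.H93.J4U.GoodCheck

/-!
Of the complement and its twist one has its involutions without fixed points outside the class of `z`: otherwise
the count of the conjugates of `z` in the core at the sextet `698` fails modulo eighty.
-/

set_option autoImplicit false
set_option linter.style.haveILetI false

namespace Cfsg.Agent.H93.J4U

open Cfsg Cfsg.Agent.Golay Subgroup H43.JFour H98.JFour H38.JFour Tab

universe u

theorem el_eq_one {T : ℕ} (hT : inM24 T = true) (h : tblEq T idTbl = true) : el T = 1 := by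
  apply Subtype.ext
  rw [el_coe hT, mkPerm_eq_of_tblEq (validT_of_inM24 hT) idTbl_spec.1 h, idTbl_spec.2]
  rfl

theorem el_ne_one {T : ℕ} (hT : inM24 T = true) (h : tblEq T idTbl = false) : el T ≠ 1 := by
  have hi : inM24 idTbl = true := by decide +kernel
  have h1 : el idTbl = 1 := el_eq_one hi (by decide +kernel)
  exact h1 ▸ el_ne hT hi h

theorem sum_flatMap_mod {α β : Type} (l : List α) (f : α → List β) (n : β → ℕ) (m : ℕ)
    (h : ∀ q ∈ l, ((f q).map n).sum % m = 0) : ((l.flatMap f).map n).sum % m = 0 := by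
  induction l with
  | nil => simp
  | cons q l ih =>
    rw [List.flatMap_cons, List.map_append, List.sum_append, Nat.add_mod,
      h q List.mem_cons_self, ih fun x hx => h x (List.mem_cons_of_mem _ hx)]
    simp

theorem mem_zip_map_self (l : List ℕ) (b : ℕ → Bool) (p : ℕ × Bool) :
    p ∈ l.zip (l.map b) ↔ p.1 ∈ l ∧ p.2 = b p.1 := by
  have e : l.zip (l.map b) = l.map fun a => (a, b a) := by induction l <;> simp [*]
  rw [e, List.mem_map]
  exact ⟨fun ⟨a, ha, e⟩ => by subst e; exact ⟨ha, rfl⟩, fun ⟨h1, h2⟩ => ⟨p.1, h1, by rw [← h2]⟩⟩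

theorem card_filter_lists {a b : List ℕ} (ha : a.Nodup) (hb : b.Nodup) (P : ℕ × ℕ → Prop)
    [DecidablePred P] :
    ((a.toFinset ×ˢ b.toFinset).filter P).card =
      (b.map fun T => a.countP fun s => decide (P (s, T))).sum := by
  rw [Finset.card_filter, Finset.sum_product_right, List.sum_toFinset _ hb]
  congr 1
  refine List.map_congr_left fun T _ => ?_
  rw [← Finset.card_filter, List.countP_eq_length_filter, ← List.toFinset_card_of_nodup (ha.filter _)]
  congr 1
  ext s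
  simp

variable {G : Type u} [Group G] [Finite G]

namespace Uni

variable (D : Uni G)

theorem F_inv (s : ℕ) : (D.F s)⁻¹ = D.F s := inv_eq_of_mul_eq_one_right (D.S.F_sq s)

theorem img_xor (D : Uni G) {T a b : ℕ} (hT : inM24 T = true) (ha : ev a = true) (hb : ev b = true) :
    img T (a ^^^ b) = img T a ^^^ img T b := by
  refine D.F_inj (ev_img (validT_of_inM24 hT) (ev_xor ha hb))
    (ev_xor (ev_img (validT_of_inM24 hT) ha) (ev_img (validT_of_inM24 hT) hb)) ?_
  rw [D.F_xor, ← D.conj_el hT (ev_xor ha hb), ← D.conj_el hT ha, ← D.conj_el hT hb, D.F_xor]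
  group

theorem lin_img (D : Uni G) {T s : ℕ} (hT : inM24 T = true) (hs : ev s = true) :
    lin (linGens T) s = img T s := by
  have h := graphL_rel (fun x y => ev x = true ∧ y = img T x)
    ⟨ev_zero, by rw [show img T 0 = img T (0 ^^^ 0) from rfl, D.img_xor hT ev_zero ev_zero, Nat.xor_self]⟩
    (fun x y x' y' hx hx' => ⟨ev_xor hx.1 hx'.1, by rw [hx.2, hx'.2, D.img_xor hT hx.1 hx'.1]⟩)
    (gs := linGens T)
    (List.forall₂_map_right_iff.2 (List.forall₂_same.2 fun b hb =>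
      ⟨by
        have hbe : basisE.all ev = true := by decide
        exact List.all_eq_true.1 hbe b hb, rfl⟩))
    _ (lin_mem_graph (by simp [linGens, basisE]) hs)
  exact h.2

theorem mul_φ_F (σ : ↥Cfsg.M24) {T s : ℕ} (hT : inM24 T = true) (hs : ev s = true) (hσ : σ = el T) :
    D.φ σ * D.F s = D.F (img T s) * D.φ σ := by
  subst hσ
  exact mul_inv_eq_iff_eq_mul.1 (D.conj_el hT hs)

theorem sq_iff {T s : ℕ} (hT : inM24 T = true) (hsq : el T * el T = 1) (hs : ev s = true) :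
    D.F s * D.φ (el T) * (D.F s * D.φ (el T)) = 1 ↔ img T s = s := by
  have he := ev_img (validT_of_inM24 hT) hs
  rw [show D.F s * D.φ (el T) * (D.F s * D.φ (el T)) =
    D.F s * (D.φ (el T) * D.F s) * D.φ (el T) by group, D.mul_φ_F _ hT hs rfl,
    show D.F s * (D.F (img T s) * D.φ (el T)) * D.φ (el T) =
      D.F s * D.F (img T s) * (D.φ (el T) * D.φ (el T)) by group, ← map_mul, hsq, map_one, mul_one,
    ← D.F_xor]
  refine ⟨fun e => ?_, fun e => by rw [e, Nat.xor_self, D.F_zero]⟩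
  have := D.F_inj (ev_xor hs he) ev_zero (e.trans D.F_zero.symm)
  exact (Nat.xor_eq_zero_iff.1 this).symm

theorem conj_shift {T s w : ℕ} (hT : inM24 T = true) (hw : ev w = true) :
    IsConj (D.F s * D.φ (el T)) (D.F (s ^^^ (w ^^^ img T w)) * D.φ (el T)) := by
  refine isConj_iff.2 ⟨D.F w, ?_⟩
  rw [F_inv, show D.F w * (D.F s * D.φ (el T)) * D.F w = D.F w * D.F s * (D.φ (el T) * D.F w) by group,
    D.mul_φ_F _ hT hw rfl, D.F_xor, D.F_xor, D.h.V_comm (D.F_mem w) (D.F_mem s)]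
  group

theorem class_iff {T s r : ℕ} (hT : inM24 T = true) {pre : List ℕ} (hpre : ∀ w ∈ pre, ev w = true)
    (h : s ^^^ r ∈ imVals T pre) :
    IsConj D.z (D.F s * D.φ (el T)) ↔ IsConj D.z (D.F r * D.φ (el T)) := by
  obtain ⟨w, hw, e⟩ := List.mem_map.1 h
  have h1 := D.conj_shift (s := s) hT (hpre w hw)
  rw [e, ← Nat.xor_assoc, Nat.xor_self, Nat.zero_xor] at h1
  exact ⟨fun h => h.trans h1, fun h => h.trans h1.symm⟩

/-- Both classes of involutions over `uT` are in the class of `z`. -/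
def BothZ : Prop :=
  IsConj D.z (D.φ (el uT)) ∧ IsConj D.z (D.F dS * D.φ (el uT))

theorem u_facts : inM24 uT = true ∧ el uT * el uT = 1 ∧ ev dS = true ∧ (∀ w ∈ uPre, ev w = true) ∧
    ∀ s ∈ fixedList (linGens uT), s ∈ imVals uT uPre ∨ s ^^^ dS ∈ imVals uT uPre := by
  have h := u_check
  simp only [Bool.and_eq_true, List.all_eq_true, Bool.or_eq_true, List.contains_iff_mem] at h
  obtain ⟨⟨⟨⟨h1, h2⟩, h3⟩, h4⟩, h5⟩ := h
  exact ⟨h1, el_sq h1 h2, h3, h4, h5⟩

theorem u_class {s : ℕ} (hs : ev s = true) (hfix : img uT s = s) :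
    (IsConj D.z (D.F s * D.φ (el uT)) ↔ IsConj D.z (D.φ (el uT))) ∨
      (IsConj D.z (D.F s * D.φ (el uT)) ↔ IsConj D.z (D.F dS * D.φ (el uT))) := by
  obtain ⟨hu, -, -, hpre, hcls⟩ := u_facts
  rcases hcls s (mem_fixedList (by simp [linGens, basisE]) hs (by rw [D.lin_img hu hs, hfix])) with h | h
  · left
    have h1 := D.class_iff (r := 0) hu hpre (by rwa [Nat.xor_zero] : s ^^^ 0 ∈ imVals uT uPre)
    rwa [D.F_zero, one_mul] at h1
  · exact Or.inr (D.class_iff hu hpre h)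

theorem conjZ_free (hb : D.BothZ) {τ C : ↥Cfsg.M24} (hτ : C * el uT = τ * C) {v : G} (hv : v ∈ D.V)
    (hsq : v * D.φ τ * (v * D.φ τ) = 1) : IsConj D.z (v * D.φ τ) := by
  obtain ⟨hu, husq, -, -, -⟩ := u_facts
  have hτ' : τ = C * el uT * C⁻¹ := eq_mul_inv_of_mul_eq hτ.symm
  have hv' : (D.φ C)⁻¹ * v * D.φ C ∈ D.V :=
    (mem_normalizer_iff''.1 (D.φ_mem_normalizer C) v).1 hv
  obtain ⟨s, hs, e⟩ := D.exists_F hv'
  have hy : D.F s * D.φ (el uT) = (D.φ C)⁻¹ * (v * D.φ τ) * D.φ C := by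
    rw [e, hτ', map_mul, map_mul, map_inv]; group
  have hfix : img uT s = s := by
    refine (D.sq_iff hu husq hs).1 ?_
    rw [hy, show (D.φ C)⁻¹ * (v * D.φ τ) * D.φ C * ((D.φ C)⁻¹ * (v * D.φ τ) * D.φ C) =
      (D.φ C)⁻¹ * (v * D.φ τ * (v * D.φ τ)) * D.φ C by group, hsq]
    group
  have hz : IsConj D.z (D.F s * D.φ (el uT)) := by
    rcases D.u_class hs hfix with h | h
    exacts [h.2 hb.1, h.2 hb.2]
  refine hz.trans (isConj_iff.2 ⟨D.φ C, ?_⟩)
  rw [hy]; group

/-- An involution of the core at `698` conjugate to `z`, by coordinates. -/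
def Pz (p : ℕ × ℕ) : Prop :=
  D.cEl p * D.cEl p = 1 ∧ D.cEl p ≠ 1 ∧ D.cEl p ≠ D.a ∧ IsConj D.z (D.cEl p)

/-- The number of them over a permutation. -/
noncomputable def nZ (T : ℕ) : ℕ := by
  classical exact halfList.countP fun s => decide (D.Pz (s, T))

theorem sum_nZ : (groupT.map D.nZ).sum = 1386 := by
  classical
  have h2 : {x | x ∈ core D.a ∧ x * x = 1 ∧ x ≠ 1 ∧ x ≠ D.a ∧ IsConj D.z x} =
      D.cEl '' ((coords.filter D.Pz : Finset (ℕ × ℕ)) : Set (ℕ × ℕ)) := by
    ext x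
    constructor
    · rintro ⟨hx, hP⟩
      obtain ⟨s, hs, T, hT, rfl⟩ := D.core_decomp hx
      exact ⟨(s, T), Finset.mem_coe.2 (Finset.mem_filter.2 ⟨mem_coords.2 ⟨hs, hT⟩, hP⟩), rfl⟩
    · rintro ⟨p, hp, rfl⟩
      obtain ⟨hc, hP⟩ := Finset.mem_filter.1 (Finset.mem_coe.1 hp)
      exact ⟨D.cEl_mem (mem_coords.1 hc), hP⟩
  have hinj : Set.InjOn D.cEl ((coords.filter D.Pz : Finset (ℕ × ℕ)) : Set (ℕ × ℕ)) := fun p hp q hq e =>
    D.cEl_inj (mem_coords.1 (Finset.mem_filter.1 (Finset.mem_coe.1 hp)).1)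
      (mem_coords.1 (Finset.mem_filter.1 (Finset.mem_coe.1 hq)).1) e
  have h3 := D.core_count D.a_mem D.a_conj
  rw [h2, hinj.ncard_image, Set.ncard_coe_finset] at h3
  rw [← h3]
  unfold coords nZ
  exact (card_filter_lists half_check.2.1 groupT_nodup D.Pz).symm

theorem cEl_ne {T s : ℕ} (hne : el T ≠ 1) {v : G} (hv : v ∈ D.V) : D.cEl (s, T) ≠ v := fun e => by
  have e' : D.F s * D.φ (el T) = v * D.φ 1 := by rw [map_one, mul_one]; exact e
  exact hne (D.decomp_unique (D.F_mem s) hv e').2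

theorem nZ_one : D.nZ oneT = 90 := by
  classical
  have h := one_check
  simp only [Bool.and_eq_true, decide_eq_true_eq] at h
  obtain ⟨⟨hin, he⟩, hc⟩ := h
  unfold nZ
  refine (List.countP_congr fun s hs => ?_).trans hc
  have hse := half_facts.2.2.2.2.1 s hs
  have hae := (isSext_ev half_facts.1).1
  simp only [Pz, cEl, el_eq_one hin he, map_one, mul_one, decide_eq_true_eq, Bool.and_eq_true,
    Bool.not_eq_true', beq_eq_false_iff_ne]
  constructor
  · rintro ⟨-, h1, h2, h3⟩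
    exact ⟨⟨fun e => h1 (by rw [e, D.F_zero]), fun e => h2 (by rw [e])⟩, (D.F_isConj hse).1 h3⟩
  · rintro ⟨⟨h1, h2⟩, h3⟩
    exact ⟨D.S.F_sq s, fun e => h1 (D.F_inj hse ev_zero (e.trans D.F_zero.symm)),
      fun e => h2 (D.F_inj hse hae e), (D.F_isConj hse).2 h3⟩

theorem nZ_free (hb : D.BothZ) {q : ℕ × ℕ} (hq : q ∈ freeList) : D.nZ q.1 = 64 := by
  classical
  have h := List.all_eq_true.1 free_check q hq
  simp only [Bool.and_eq_true, decide_eq_true_eq, List.contains_iff_mem, Bool.not_eq_true'] at h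
  obtain ⟨⟨⟨⟨⟨hT, hC⟩, hcu⟩, hsq⟩, hne⟩, hc⟩ := h
  have hin := group_mem hT
  obtain ⟨hu, -⟩ := u_facts
  have hcomm : el q.2 * el uT = el q.1 * el q.2 := by
    obtain ⟨hv, he⟩ := tblMul_spec (validT_of_inM24 hC) (validT_of_inM24 hu)
    obtain ⟨hv', he'⟩ := tblMul_spec (validT_of_inM24 hin) (validT_of_inM24 hC)
    apply Subtype.ext
    rw [Subgroup.coe_mul, Subgroup.coe_mul, el_coe hC, el_coe hu, el_coe hin, ← he, ← he',
      mkPerm_eq_of_tblEq hv hv' hcu]
  rw [fixHalf, ← List.countP_eq_length_filter] at hc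
  unfold nZ
  refine (List.countP_congr fun s hs => ?_).trans hc
  have hse := half_facts.2.2.2.2.1 s hs
  simp only [decide_eq_true_eq, beq_iff_eq]
  refine ⟨fun hP => (D.sq_iff hin (el_sq hin hsq) hse).1 hP.1, fun e => ?_⟩
  have h1 := (D.sq_iff hin (el_sq hin hsq) hse).2 e
  exact ⟨h1, D.cEl_ne (el_ne_one hin hne) (one_mem _), D.cEl_ne (el_ne_one hin hne) D.a_mem,
    D.conjZ_free hb hcomm (D.F_mem s) h1⟩

theorem fT_facts : inM24 fT = true ∧ img fT aS = aS := by
  have h := eight_mem_check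
  simp only [Bool.and_eq_true, beq_iff_eq] at h
  exact h.1

theorem nZ_succ {T T' : ℕ} (hT : inM24 T = true) (hT' : inM24 T' = true)
    (h : tblEq (tblMul fT T) (tblMul T' fT) = true) : D.nZ T' = D.nZ T := by
  classical
  obtain ⟨hf, hfa⟩ := fT_facts
  have hcomm : el fT * el T = el T' * el fT := by
    obtain ⟨hv, he⟩ := tblMul_spec (validT_of_inM24 hf) (validT_of_inM24 hT)
    obtain ⟨hv', he'⟩ := tblMul_spec (validT_of_inM24 hT') (validT_of_inM24 hf)
    apply Subtype.ext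
    rw [Subgroup.coe_mul, Subgroup.coe_mul, el_coe hf, el_coe hT, el_coe hT', ← he, ← he',
      mkPerm_eq_of_tblEq hv hv' h]
  unfold nZ
  rw [← perm_f.countP_eq, List.countP_map]
  refine List.countP_congr fun s hs => ?_
  have hse := half_facts.2.2.2.2.1 s hs
  have hae := (isSext_ev half_facts.1).1
  have hx : D.cEl (img fT s, T') = D.φ (el fT) * D.cEl (s, T) * (D.φ (el fT))⁻¹ := by
    show D.F (img fT s) * D.φ (el T') = _ * (D.F s * D.φ (el T)) * _
    rw [← D.conj_el hf hse, show el T' = el fT * el T * (el fT)⁻¹ from eq_mul_inv_of_mul_eq hcomm.symm,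
      map_mul, map_mul, map_inv]
    group
  have ha : D.φ (el fT) * D.a * (D.φ (el fT))⁻¹ = D.a := by rw [D.conj_el hf hae, hfa]
  rw [Function.comp_apply, decide_eq_true_eq, decide_eq_true_eq]
  simp only [Pz, hx]
  set g := D.φ (el fT)
  set x := D.cEl (s, T)
  have hi : ∀ y w : G, g * y * g⁻¹ = g * w * g⁻¹ ↔ y = w := fun y w =>
    ⟨fun e => mul_left_cancel (mul_right_cancel e), fun e => by rw [e]⟩
  refine and_congr ?_ (and_congr (not_congr ?_) (and_congr (not_congr ?_) ?_))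
  · rw [show g * x * g⁻¹ * (g * x * g⁻¹) = g * (x * x) * g⁻¹ by group,
      show (1 : G) = g * 1 * g⁻¹ by group, hi, show g * 1 * g⁻¹ = (1 : G) by group]
  · rw [show (1 : G) = g * 1 * g⁻¹ by group, hi, show g * 1 * g⁻¹ = (1 : G) by group]
  · rw [← ha, hi, ha]
  · exact ⟨fun e => e.trans (isConj_iff.2 ⟨g⁻¹, by group⟩), fun e => e.trans (isConj_iff.2 ⟨g, rfl⟩)⟩

theorem eight_mem {q : List ℕ × List ℕ} (hq : q ∈ eightOrbits) {T : ℕ} (hT : T ∈ q.1) :
    inM24 T = true ∧ el T * el T = 1 ∧ el T ≠ 1 := by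
  have h := eight_mem_check
  simp only [Bool.and_eq_true, List.all_eq_true, decide_eq_true_eq, List.contains_iff_mem,
    Bool.not_eq_true'] at h
  obtain ⟨⟨hT1, hT2⟩, hT3⟩ := (h.2 q hq).1.2 T hT
  exact ⟨group_mem hT1, el_sq (group_mem hT1) hT2, el_ne_one (group_mem hT1) hT3⟩

theorem nZ_head {i : ℕ} (hi : i < 9) :
    D.nZ ((eightOrbits.getD i ([], [])).1.getD 0 0) % 16 = 0 := by
  classical
  set q := eightOrbits.getD i ([], []) with hqd
  set T := q.1.getD 0 0
  set pre := eightPre.getD i []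
  have hlen : i < eightOrbits.length := lt_of_lt_of_eq hi (by decide +kernel)
  have hq : q ∈ eightOrbits := by
    rw [hqd, List.getD_eq_getElem _ _ hlen]; exact List.getElem_mem hlen
  have hall : (eightOrbits.all fun q => decide (q.1.length = 5)) = true := by decide +kernel
  have hl5 : q.1.length = 5 := by simpa using List.all_eq_true.1 hall q hq
  have hTm : T ∈ q.1 := by
    show q.1.getD 0 0 ∈ q.1
    rw [List.getD_eq_getElem _ _ (by omega)]; exact List.getElem_mem _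
  obtain ⟨hin, hsq, hne⟩ := eight_mem hq hTm
  have h := List.all_eq_true.1 eight_class_check i (List.mem_range.2 hi)
  simp only [Bool.and_eq_true, List.all_eq_true, decide_eq_true_eq, beq_iff_eq, List.any_eq_true,
    List.contains_iff_mem] at h
  obtain ⟨⟨⟨⟨h4, hpre⟩, hreps⟩, hcov⟩, hcombo⟩ := h
  let b : ℕ → Bool := fun r => decide (IsConj D.z (D.F r * D.φ (el T)))
  obtain ⟨r1, r2, r3, r4, hr⟩ : ∃ r1 r2 r3 r4, q.2 = [r1, r2, r3, r4] := by
    match hq2 : q.2, h4 with
    | [r1, r2, r3, r4], _ => exact ⟨r1, r2, r3, r4, rfl⟩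
  have key := hcombo (q.2.map b) (by rw [hr]; exact combos_mem _ _ _ _)
  suffices e : D.nZ T = cntB (fixHalf T) (imVals T pre) q.2 (q.2.map b) by rw [e]; exact key
  rw [cntB, fixHalf, List.countP_filter]
  unfold nZ
  refine List.countP_congr fun s hs => ?_
  have hse := half_facts.2.2.2.2.1 s hs
  simp only [decide_eq_true_eq, Bool.and_eq_true, List.any_eq_true, beq_iff_eq, List.contains_iff_mem]
  constructor
  · intro hP
    have hfix := (D.sq_iff hin hsq hse).1 hP.1
    obtain ⟨r, hr', hv⟩ := hcov s (List.mem_filter.2 ⟨hs, beq_iff_eq.2 hfix⟩)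
    exact ⟨⟨(r, b r), (mem_zip_map_self _ _ _).2 ⟨hr', rfl⟩,
      decide_eq_true ((D.class_iff hin hpre hv).1 hP.2.2.2), hv⟩, hfix⟩
  · rintro ⟨⟨⟨r, c⟩, hzip, hc, hv⟩, hfix⟩
    have hbr : c = b r := ((mem_zip_map_self _ _ _).1 hzip).2
    dsimp only at hc
    rw [hbr] at hc
    exact ⟨(D.sq_iff hin hsq hse).2 hfix, D.cEl_ne hne (one_mem _), D.cEl_ne hne D.a_mem,
      (D.class_iff hin hpre hv).2 (of_decide_eq_true hc)⟩

theorem sum_five {L : List ℕ} (hlen : L.length = 5) (hM : ∀ T ∈ L, inM24 T = true)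
    (hstep : ∀ j < 4, tblEq (tblMul fT (L.getD j 0)) (tblMul (L.getD (j + 1) 0) fT) = true)
    (h16 : D.nZ (L.getD 0 0) % 16 = 0) : (L.map D.nZ).sum % 80 = 0 := by
  rcases L with _ | ⟨a, _ | ⟨b, _ | ⟨c, _ | ⟨d, _ | ⟨e, _ | ⟨x, L⟩⟩⟩⟩⟩⟩ <;>
    simp only [List.length_cons, List.length_nil] at hlen <;> try omega
  have e1 := D.nZ_succ (T := a) (T' := b) (hM a (by simp)) (hM b (by simp)) (hstep 0 (by norm_num))
  have e2 := D.nZ_succ (T := b) (T' := c) (hM b (by simp)) (hM c (by simp)) (hstep 1 (by norm_num))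
  have e3 := D.nZ_succ (T := c) (T' := d) (hM c (by simp)) (hM d (by simp)) (hstep 2 (by norm_num))
  have e4 := D.nZ_succ (T := d) (T' := e) (hM d (by simp)) (hM e (by simp)) (hstep 3 (by norm_num))
  simp only [List.getD_cons_zero] at h16
  simp only [List.map_cons, List.map_nil, List.sum_cons, List.sum_nil, e4, e3, e2, e1]
  omega

theorem orbit_facts {q : List ℕ × List ℕ} (hq : q ∈ eightOrbits) : q.1.length = 5 ∧
    ∀ j < 4, tblEq (tblMul fT (q.1.getD j 0)) (tblMul (q.1.getD (j + 1) 0) fT) = true := by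
  have h := eight_mem_check
  simp only [Bool.and_eq_true, List.all_eq_true, decide_eq_true_eq, List.mem_range] at h
  exact ⟨(h.2 q hq).1.1, (h.2 q hq).2⟩

theorem nZ_orbit {q : List ℕ × List ℕ} (hq : q ∈ eightOrbits) : (q.1.map D.nZ).sum % 80 = 0 := by
  refine D.sum_five (orbit_facts hq).1 (fun T hT => (eight_mem hq hT).1) (orbit_facts hq).2 ?_
  obtain ⟨i, hi, e⟩ := List.getElem_of_mem hq
  have hlen : eightOrbits.length = 9 := by decide +kernel
  have h16 := D.nZ_head (i := i) (hlen ▸ hi)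
  rw [List.getD_eq_getElem _ _ hi, e] at h16
  exact h16

theorem not_bothZ : ¬ D.BothZ := fun hb => by
  have h1 := D.sum_nZ
  rw [← (group_perm.map D.nZ).sum_eq, List.map_append, List.map_append, List.sum_append,
    List.sum_append] at h1
  have h2 : ((freeList.map Prod.fst).map D.nZ).sum = 1152 := by
    rw [List.map_map, show freeList.map (D.nZ ∘ Prod.fst) = freeList.map (fun _ => 64) from
      List.map_congr_left fun q hq => D.nZ_free hb hq, List.map_const', List.sum_replicate]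
    decide +kernel
  have h3 := sum_flatMap_mod eightOrbits Prod.fst D.nZ 80 fun q hq => D.nZ_orbit hq
  simp only [List.map_cons, List.map_nil, List.sum_cons, List.sum_nil, D.nZ_one, h2] at h1
  omega

end Uni

end Cfsg.Agent.H93.J4U
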