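import Cfsg.Agent.H93.J4U.SextSet

/-!
Finite checks for the classes of involutions over the elements of the sextet group.
-/

set_option autoImplicit false
set_option maxRecDepth 100000

namespace Cfsg.Agent.H93.J4U.Tab

open Cfsg.Agent.Golay Cfsg.Agent.H38.JFour

/-- Preimages of the values of `s + uT s`. -/
def uPre : List ℕ :=
  [0, 5, 9, 12, 17, 20, 24, 29, 33, 36, 40, 45, 48, 53, 57, 60, 129, 132, 136, 141, 144, 149, 153, 156,
    160, 165, 169, 172, 177, 180, 184, 189]

/-- Preimages of the values of `s + T s` at the first member of each orbit of `eightOrbits`. -/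
def eightPre : List (List ℕ) :=
  [[0, 9, 33, 40, 65, 72, 96, 105, 129, 136, 160, 169, 192, 201, 225, 232],
    [0, 9, 33, 40, 65, 72, 96, 105, 129, 136, 160, 169, 192, 201, 225, 232],
    [0, 9, 33, 40, 129, 136, 160, 169, 257, 264, 288, 297, 384, 393, 417, 424],
    [0, 5, 33, 36, 129, 132, 160, 165, 257, 260, 288, 293, 384, 389, 417, 420],
    [0, 5, 9, 12, 33, 36, 40, 45, 65, 68, 72, 77, 96, 101, 105, 108],
    [0, 3, 5, 6, 33, 34, 36, 39, 129, 130, 132, 135, 160, 163, 165, 166],
    [0, 3, 5, 6, 9, 10, 12, 15, 129, 130, 132, 135, 136, 139, 141, 142],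
    [0, 3, 5, 6, 33, 34, 36, 39, 129, 130, 132, 135, 160, 163, 165, 166],
    [0, 3, 5, 6, 9, 10, 12, 15, 129, 130, 132, 135, 136, 139, 141, 142]]

/-- The fixed syndromes in the half. -/
def fixHalf (T : ℕ) : List ℕ := halfList.filter fun s => img T s == s

/-- The values `w + T w` at the given preimages. -/
def imVals (T : ℕ) (pre : List ℕ) : List ℕ := pre.map fun w => w ^^^ img T w

/-- The number of fixed syndromes in the classes marked by the booleans. -/
def cntB (L vals reps : List ℕ) (bs : List Bool) : ℕ :=
  L.countP fun s => (reps.zip bs).any fun q => q.2 && vals.contains (s ^^^ q.1)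

/-- The sixteen lists of four booleans. -/
def combos : List (List Bool) :=
  [false, true].flatMap fun a => [false, true].flatMap fun b => [false, true].flatMap fun c =>
    [false, true].map fun d => [a, b, c, d]

/-- The identity as listed in the sextet group. -/
def oneT : ℕ := groupT.getD 0 0

/-- The two classes at `uT`. -/
lemma u_check : (inM24 uT && tblEq (tblMul uT uT) idTbl && ev dS && uPre.all ev &&
    (let V := imVals uT uPre
     (fixedList (linGens uT)).all fun s => V.contains s || V.contains (s ^^^ dS))) = true := by
  decide +kernel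

lemma one_check : (inM24 oneT && tblEq oneT idTbl &&
    decide ((halfList.countP fun s => !(s == 0) && !(s == aS) && isSext s) = 90)) = true := by
  decide +kernel

lemma free_check : (freeList.all fun q => groupT.contains q.1 && inM24 q.2 &&
    tblEq (tblMul q.2 uT) (tblMul q.1 q.2) && tblEq (tblMul q.1 q.1) idTbl && !tblEq q.1 idTbl &&
    decide ((fixHalf q.1).length = 64)) = true := by
  decide +kernel

lemma eight_mem_check : (inM24 fT && (img fT aS == aS) && eightOrbits.all fun q =>
    decide (q.1.length = 5) && q.1.all (fun T => groupT.contains T && tblEq (tblMul T T) idTbl &&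
      !tblEq T idTbl) &&
    (List.range 4).all fun j => tblEq (tblMul fT (q.1.getD j 0)) (tblMul (q.1.getD (j + 1) 0) fT)) =
      true := by
  decide +kernel

lemma eight_class_check : ((List.range 9).all fun i =>
    let q := eightOrbits.getD i ([], [])
    let T := q.1.getD 0 0
    let pre := eightPre.getD i []
    let V := imVals T pre
    let L := fixHalf T
    decide (q.2.length = 4) && pre.all ev && (q.2.all fun r => ev r && (img T r == r)) &&
      (L.all fun s => q.2.any fun r => V.contains (s ^^^ r)) &&
      combos.all fun bs => cntB L V q.2 bs % 16 == 0) = true := by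
  decide +kernel

theorem perm_f : (halfList.map (img fT)).Perm halfList := by decide +kernel

theorem group_perm :
    ([oneT] ++ freeList.map Prod.fst ++ eightOrbits.flatMap Prod.fst).Perm groupT := by
  decide +kernel

theorem combos_mem : ∀ a b c d : Bool, [a, b, c, d] ∈ combos := by decide

end Cfsg.Agent.H93.J4U.Tab
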