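import Cfsg.Agent.H93.J4U.Hexad
import Cfsg.Agent.H56.J4U.Transport

/-!
The conjugate of `V` at the sextet `698` in the form used for the relators.
-/

set_option autoImplicit false

namespace Cfsg.Agent.H93.J4U

universe u

variable {G : Type u} [Group G] [Finite G]

theorem Uni.hexBase (D : Uni G) (hg : D.Good) : H56.J4U.HexBase D := by
  obtain ⟨g, h1, h2, h3, h4⟩ := D.exists_hex_a hg
  exact ⟨g, h1, h2, fun T hT => h3 _ (D.group_core hT), h4⟩

end Cfsg.Agent.H93.J4U
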