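import Cfsg.Agent.H93.J4U.GoodCheck

/-!
Finite checks for the conjugate of `V` at the sextet `698`.
-/

set_option autoImplicit false
set_option maxRecDepth 100000

namespace Cfsg.Agent.H93.J4U.Tab

open Cfsg.Agent.Golay Cfsg.Agent.H38.JFour

/-- Adding a generator to a span. -/
def addGen (l : List ℕ) (b : ℕ) : List ℕ := if l.contains b then l else l ++ l.map (· ^^^ b)

/-- The span of a span and its images. -/
def stepC (gs l : List ℕ) : List ℕ := (l.flatMap fun x => gs.map fun T => img T x).foldl addGen l

/-- Repeated spans of images. -/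
def closC (gs : List ℕ) : ℕ → List ℕ → List ℕ
  | 0, l => l
  | n + 1, l => closC gs n (stepC gs l)

theorem addGen_forall {P : ℕ → Prop} (hxor : ∀ x y, P x → P y → P (x ^^^ y)) {l : List ℕ} {b : ℕ}
    (hl : ∀ x ∈ l, P x) (hb : P b) : ∀ x ∈ addGen l b, P x := by
  intro x hx
  unfold addGen at hx
  split at hx
  · exact hl x hx
  · rcases List.mem_append.1 hx with h | h
    · exact hl x h
    · obtain ⟨y, hy, rfl⟩ := List.mem_map.1 h
      exact hxor _ _ (hl y hy) hb

theorem foldl_addGen_forall {P : ℕ → Prop} (hxor : ∀ x y, P x → P y → P (x ^^^ y)) :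
    ∀ (bs l : List ℕ), (∀ b ∈ bs, P b) → (∀ x ∈ l, P x) → ∀ x ∈ bs.foldl addGen l, P x
  | [], _, _, hl => hl
  | b :: bs, l, hb, hl =>
    foldl_addGen_forall hxor bs _ (fun x hx => hb x (List.mem_cons_of_mem _ hx))
      (addGen_forall hxor hl (hb b List.mem_cons_self))

theorem closC_forall {P : ℕ → Prop} (hxor : ∀ x y, P x → P y → P (x ^^^ y)) {gs : List ℕ}
    (himg : ∀ T ∈ gs, ∀ x, P x → P (img T x)) :
    ∀ (n : ℕ) (l : List ℕ), (∀ x ∈ l, P x) → ∀ x ∈ closC gs n l, P x
  | 0, _, hl => hl
  | n + 1, l, hl => by
    refine closC_forall hxor himg n (stepC gs l) (foldl_addGen_forall hxor _ _ ?_ hl)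
    intro b hb
    obtain ⟨x, hx, hb⟩ := List.mem_flatMap.1 hb
    obtain ⟨T, hT, rfl⟩ := List.mem_map.1 hb
    exact himg T hT x (hl x hx)

lemma fix_u_check : ((fixedList (linGens uT)).all fun s => halfList.contains s) = true ∧
    (centGens.all fun T => inM24 T && tblEq (tblMul T uT) (tblMul uT T)) = true := by
  decide +kernel

/-- A syndrome fixed by `uT` other than the two gives a duad or all values `s + uT s`. -/
lemma closure_check : (let V := imVals uT uPre
    (fixHalf uT).all fun s => s == 0 || s == aS ||
      (let L := closC centGens 3 (addGen [0] s)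
       L.any isDuad || V.all fun v => L.contains v)) = true := by
  decide +kernel

/-- The values `s + uT s` are all listed. -/
lemma range_check : ((graphL (linGens uT)).all fun q => (imVals uT uPre).contains (q.1 ^^^ q.2)) = true := by
  decide +kernel

/-- The members of the free list in the order of the words of `groupList`. -/
def wordGens : List ℕ := baseFree ++ (stageList.drop 2).map Prod.fst

lemma stage_check : (stageList.all fun q => (freeList.map Prod.fst).contains q.1 &&
    (q.2.all fun h => inM24 h.1 && decide (h.2 < 3) && tblEq (tblMul h.1 q.1) (tblMul q.1 h.1) &&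
      tblEq (tblMul h.1 (baseFree.getD h.2 0)) (tblMul (baseFree.getD h.2 0) h.1)) &&
    (fixHalf q.1).all fun s => s == 0 || s == aS ||
      q.2.any fun h => !((s ^^^ img h.1 s) == 0 || (s ^^^ img h.1 s) == aS)) = true := by
  decide +kernel

lemma stage_order_check : (baseFree.getD 0 0 == uT && (stageList.take 2).all (fun q => q.2.all fun h => h.2 == 0) &&
    ((stageList.take 2).map Prod.fst == baseFree.drop 1) &&
    baseFree.all (fun T => (freeList.map Prod.fst).contains T)) = true := by
  decide +kernel

lemma word_check : (groupList.all fun q => (q.2.all fun i => decide (i < wordGens.length)) &&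
    tblEq (q.2.foldl (fun a i => tblMul a (wordGens.getD i 0)) idTbl) q.1) = true := by
  decide +kernel

end Cfsg.Agent.H93.J4U.Tab
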